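import Cfsg.Agent.AltSevenOrder.Three

/-!
# Centralisers of elements of odd prime order are small
-/

set_option autoImplicit false
set_option linter.style.haveILetI false
set_option linter.unusedSectionVars false

namespace CfsgLib.AltSevenOrder

open Subgroup MulAction

universe u

variable {G : Type u} [Group G] [Finite G] [IsSimpleGroup G]

omit [Finite G] [IsSimpleGroup G] in
/-- The normaliser of a cyclic subgroup normalises the centraliser. -/
theorem normalizer_le_normalizer_centralizer (y : G) :
    normalizer ((zpowers y : Subgroup G) : Set G) ≤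
      normalizer ((centralizer ({y} : Set G) : Subgroup G) : Set G) := by
  intro n hn
  refine mem_normalizer_iff.2 fun x => ?_
  simp only [mem_centralizer_singleton_iff]
  obtain ⟨i, hi⟩ := (mem_normalizer_iff''.1 hn y).1 (mem_zpowers y)
  obtain ⟨j, hj⟩ := (mem_normalizer_iff.1 hn y).1 (mem_zpowers y)
  replace hi : y ^ i = n⁻¹ * y * n := hi
  replace hj : y ^ j = n * y * n⁻¹ := hj
  constructor
  · intro hx
    have hc : Commute x (n⁻¹ * y * n) := hi ▸ (show Commute x y from hx).zpow_right i
    calc n * x * n⁻¹ * y = n * (x * (n⁻¹ * y * n)) * n⁻¹ := by group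
      _ = n * ((n⁻¹ * y * n) * x) * n⁻¹ := by rw [hc.eq]
      _ = y * (n * x * n⁻¹) := by group
  · intro hx
    have hc : Commute (n * x * n⁻¹) (n * y * n⁻¹) := hj ▸ (show Commute (n * x * n⁻¹) y from hx).zpow_right j
    calc x * y = n⁻¹ * ((n * x * n⁻¹) * (n * y * n⁻¹)) * n := by group
      _ = n⁻¹ * ((n * y * n⁻¹) * (n * x * n⁻¹)) * n := by rw [hc.eq]
      _ = y * x := by group

namespace Hyp

variable (h : Hyp G)
include h

theorem card_centralizer_eq {y : G} (hy : y ≠ 1) {a : ℕ}
    (ha : a ∣ Nat.card (centralizer ({y} : Set G))) :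
    ∃ k, Nat.card (centralizer ({y} : Set G)) = a * k ∧ a * k ≤ 280 ∧ a * k ∣ 2520 := by
  obtain ⟨k, hk⟩ := ha
  exact ⟨k, hk, hk ▸ h.card_centralizer_le hy, hk ▸ h.card ▸ Subgroup.card_subgroup_dvd_card _⟩

variable [Fact (Nat.Prime 3)]

/-- No element of order three commutes with a group of order eight. -/
theorem no_eight_three {y : G} (hy : orderOf y = 3)
    (h8 : 8 ∣ Nat.card (centralizer ({y} : Set G))) : False := by
  set C := centralizer ({y} : Set G) with hC
  have h72 : 72 ∣ Nat.card C := Nat.Coprime.mul_dvd_of_dvd_of_dvd (m := 8) (n := 9) (by norm_num) h8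
    (h.nine_dvd_centralizer hy)
  obtain ⟨k, hk, hle, hdvd⟩ := h.card_centralizer_eq (h.ne_one_three hy) h72
  have hC72 : Nat.card C = 72 := by
    have hk3 : k ≤ 3 := by omega
    interval_cases k <;> omega
  obtain ⟨P, hyP⟩ := exists_sylow_mem hy
  set N := normalizer ((P : Subgroup G) : Set G) with hN
  have hPC := h.sylow_le_centralizer P hyP
  have hM : ∀ k : ℕ, k ∣ 8 → k % 3 = 1 → k = 1 ∨ k = 4 := fun k hk h3 => by
    have := Nat.le_of_dvd (by norm_num) hk
    interval_cases k <;> omega
  set P' : Sylow 3 C := P.subtype hPC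
  have hk1 := hM (Nat.card (Sylow 3 C)) (by
      have h1 := P'.card_dvd_index
      have h2 := (P' : Subgroup C).card_mul_index
      rw [CfsgLib.SmallSimple.card_sylow_eq P' (k := 2) (m := 8) (hC72.trans (by norm_num)) (by norm_num),
        hC72] at h2
      rwa [show (P' : Subgroup C).index = 8 by omega] at h1)
    (Eq.trans (card_sylow_modEq_one 3 C) (by norm_num))
  have hN' : normalizer ((P' : Subgroup C) : Set C) = N.subgroupOf C :=
    (subgroupOf_normalizer_eq hPC).symm
  have hmul := CfsgLib.SmallSimple.card_sylow_mul P'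
  rw [hC72, hN', ← inf_subgroupOf_right, Nat.card_congr (subgroupOfEquivOfLe inf_le_right).toEquiv] at hmul
  have hcase : Nat.card (N ⊓ C : Subgroup G) = 72 ∨ Nat.card (N ⊓ C : Subgroup G) = 18 := by
    rcases hk1 with e | e <;> rw [e] at hmul <;> omega
  haveI : Fact (Nat.Prime 2) := ⟨Nat.prime_two⟩
  obtain ⟨t, ht⟩ := exists_prime_orderOf_dvd_card' (G := (N ⊓ C : Subgroup G)) 2
    (by rcases hcase with e | e <;> rw [e] <;> norm_num)
  obtain ⟨htN, htC⟩ := Subgroup.mem_inf.1 t.2
  have hto : orderOf (t : G) = 2 := (Subgroup.orderOf_coe t).trans ht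
  have hN36 : Nat.card N = 36 := h.card_normalizer_three P (hto ▸ N.orderOf_dvd_natCard htN)
  have h18 : Nat.card (N ⊓ C : Subgroup G) = 18 := by
    rcases hcase with e | e
    · have h1 := card_dvd_of_le (inf_le_left : N ⊓ C ≤ N)
      rw [e, hN36] at h1
      norm_num at h1
    · exact e
  have hL : normalizer ((zpowers y : Subgroup G) : Set G) = C := by
    refine (eq_of_le_of_card_ge (CfsgLib.SixThousand.centralizer_le y) ?_).symm
    obtain ⟨j, hj⟩ := hC72 ▸ card_dvd_of_le (CfsgLib.SixThousand.centralizer_le (G := G) y)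
    have h1 := h.card_normalizer_zpowers (h.ne_one_three hy)
    have h2 : 72 * j ∣ 2520 := hj ▸ h.card ▸ Subgroup.card_subgroup_dvd_card _
    rw [hj] at h1 ⊢
    have hj3 : j ≤ 3 := by omega
    rw [hC72]
    interval_cases j <;> omega
  have hNC : N ≤ C := by
    intro v hv
    rw [← hL]
    have hmem := h.normalizes_of_involution P hN36 hy hyP hto htN
      (mem_centralizer_singleton_iff.1 htC) hv
    refine mem_normalizer_iff.2 fun x => ?_
    have e : (zpowers y).map (MulAut.conj v).toMonoidHom = zpowers y := by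
      refine eq_of_le_of_card_ge ?_ (Subgroup.card_map_of_injective (MulAut.conj v).injective).ge
      rintro _ ⟨_, ⟨i, rfl⟩, rfl⟩
      simp only [MulEquiv.coe_toMonoidHom, MulAut.conj_apply, ← conj_zpow]
      exact zpow_mem hmem i
    refine ⟨fun hx => e ▸ ⟨x, hx, rfl⟩, fun hx => ?_⟩
    rw [← e] at hx
    obtain ⟨z, hz, hze⟩ := hx
    rwa [← (MulAut.conj v).injective hze]
  rw [inf_eq_left.2 hNC, hN36] at h18
  omega

/-- No element of odd prime order commutes with an element of order four. -/
theorem no_four {p : ℕ} [hp : Fact p.Prime] (hp2 : p ≠ 2) {y σ : G} (hy : orderOf y = p)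
    (hσ : orderOf σ = 4) (hc : Commute σ y) : False := by
  have hσC : σ ∈ centralizer ({y} : Set G) := mem_centralizer_singleton_iff.2 hc.eq
  have h4 : 4 ∣ Nat.card (centralizer ({y} : Set G)) :=
    hσ ▸ (centralizer ({y} : Set G)).orderOf_dvd_natCard hσC
  have hp' : p = 3 ∨ p = 5 ∨ p = 7 := by
    have hd : p ∣ 2520 := hy ▸ h.card ▸ orderOf_dvd_natCard y
    rw [show (2520 : ℕ) = 2 ^ 3 * (3 ^ 2 * (5 * 7)) by norm_num] at hd
    rcases hp.out.dvd_mul.1 hd with hd | hd
    · exact absurd ((Nat.prime_dvd_prime_iff_eq hp.out Nat.prime_two).1 (hp.out.dvd_of_dvd_pow hd)) hp2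
    rcases hp.out.dvd_mul.1 hd with hd | hd
    · exact Or.inl ((Nat.prime_dvd_prime_iff_eq hp.out Nat.prime_three).1 (hp.out.dvd_of_dvd_pow hd))
    rcases hp.out.dvd_mul.1 hd with hd | hd
    · exact Or.inr (Or.inl ((Nat.prime_dvd_prime_iff_eq hp.out (by norm_num)).1 hd))
    · exact Or.inr (Or.inr ((Nat.prime_dvd_prime_iff_eq hp.out (by norm_num)).1 hd))
  rcases hp' with rfl | rfl | rfl
  · set C := centralizer ({y} : Set G) with hC
    have h36 : 36 ∣ Nat.card C := Nat.Coprime.mul_dvd_of_dvd_of_dvd (m := 4) (n := 9) (by norm_num) h4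
      (h.nine_dvd_centralizer hy)
    obtain ⟨k, hk, hle, hdvd⟩ := h.card_centralizer_eq (h.ne_one_three hy) h36
    have hk7 : k = 1 ∨ k = 2 ∨ k = 5 ∨ k = 7 := by
      have hk7 : k ≤ 7 := by omega
      interval_cases k <;> omega
    rcases hk7 with rfl | rfl | rfl | rfl
    · obtain ⟨P, hyP⟩ := exists_sylow_mem hy
      obtain ⟨M, hMC, hMc, hMn, hodd⟩ := exists_complement_four hσ hσC (m := 9) (by decide) (by rw [hk])
      have hPM : (P : Subgroup G) = M := by
        refine eq_of_le_of_card_ge (fun x hx => hodd x (h.sylow_le_centralizer P hyP hx) ?_)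
          (by rw [hMc, h.card_three])
        exact Odd.of_dvd_nat (by decide : Odd 9) (h.card_three P ▸ (P : Subgroup G).orderOf_dvd_natCard hx)
      set N := normalizer ((P : Subgroup G) : Set G)
      have hCN : C ≤ N := by rw [← hPM] at hMn; exact hMn
      have hN36 := h.card_normalizer_three P ((dvd_trans (by norm_num) h4).trans (card_dvd_of_le hCN))
      have hCN' : C = N := eq_of_le_of_card_ge hCN (by rw [hN36, hk])
      refine h.ne_one_three hy (h.eq_one_of_central P (fun a ha b hb => h.comm_three P ha hb) hyP fun n hn => ?_)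
      exact mem_centralizer_singleton_iff.1 (hCN'.symm ▸ hn : n ∈ C)
    · exact h.no_eight_three hy (by rw [← hC, hk]; norm_num)
    · haveI : Fact (Nat.Prime 5) := ⟨by norm_num⟩
      obtain ⟨z, hz⟩ := exists_prime_orderOf_dvd_card' (G := C) 5 (by rw [hk]; norm_num)
      have hz' : orderOf (z : G) = 5 := (Subgroup.orderOf_coe z).trans hz
      obtain ⟨M, hMC, hMc, hMn, hodd⟩ := exists_complement_four hσ hσC (m := 45) (by decide) (by rw [hk])
      have hzM : zpowers (z : G) ≤ M := zpowers_le.2 (hodd z z.2 (by rw [hz']; decide))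
      have hle := hMn.trans (normalizes_of_unique (R := zpowers (z : G)) (r := 5)
        (by rw [Nat.card_zpowers, hz']) hzM fun R' h1 h2 =>
        eq_of_card_sylow_one (p := 5) (m := 9) (hMc.trans (by norm_num)) (by norm_num)
          (fun k hk h5 => by have := Nat.le_of_dvd (by norm_num) hk; interval_cases k <;> omega)
          hzM h1 (by rw [Nat.card_zpowers, hz']) h2)
      have hy5 : 3 ∣ Nat.card (centralizer ({(z : G)} : Set G)) :=
        hy ▸ (centralizer ({(z : G)} : Set G)).orderOf_dvd_natCard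
          (mem_centralizer_singleton_iff.2 (mem_centralizer_singleton_iff.1 z.2).symm)
      have := card_dvd_of_le hle
      rw [hk, (h.five hz').2.2.2 hy5] at this
      norm_num at this
    · haveI : Fact (Nat.Prime 7) := ⟨by norm_num⟩
      obtain ⟨z, hz⟩ := exists_prime_orderOf_dvd_card' (G := C) 7 (by rw [hk]; norm_num)
      exact h.not_commute_seven (x := y) ((Subgroup.orderOf_coe z).trans hz)
        (mem_centralizer_singleton_iff.1 z.2).symm (Or.inr hy)
  · set C := centralizer ({y} : Set G) with hC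
    obtain ⟨hC60, hN120⟩ := (h.five hy).2.2.1 h4
    obtain ⟨M, hMC, hMc, hMn, hodd⟩ := exists_complement_four hσ hσC (m := 15) (by decide) (by rw [hC60])
    obtain ⟨x, hx⟩ := exists_prime_orderOf_dvd_card' (G := M) 3 (by rw [hMc]; norm_num)
    have hx' : orderOf (x : G) = 3 := (Subgroup.orderOf_coe x).trans hx
    have hxM : zpowers (x : G) ≤ M := zpowers_le.2 x.2
    have hle : normalizer (C : Set G) ≤ normalizer ((zpowers (x : G) : Subgroup G) : Set G) :=
      normalizes_of_unique (r := 3) (by rw [Nat.card_zpowers, hx']) (hxM.trans hMC) fun R' h1 h2 =>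
        eq_of_card_sylow_one (p := 3) (m := 5) (hMc.trans (by norm_num)) (by norm_num)
          (fun k hk h5 => by have := Nat.le_of_dvd (by norm_num) hk; interval_cases k <;> omega)
          hxM (fun w hw => hodd w (h1 hw)
            (Odd.of_dvd_nat (by decide : Odd 3) (h2 ▸ R'.orderOf_dvd_natCard hw)))
          (by rw [Nat.card_zpowers, hx']) h2
    have h1 := card_dvd_of_le ((normalizer_le_normalizer_centralizer y).trans hle)
    rw [hN120] at h1
    have h2 := (h.nine_dvd_centralizer hx').trans
      (card_dvd_of_le (CfsgLib.SixThousand.centralizer_le (x : G)))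
    have h3 := h.card_normalizer_zpowers (h.ne_one_three hx')
    have h4' : 360 ∣ Nat.card (normalizer ((zpowers (x : G) : Subgroup G) : Set G)) :=
      (by norm_num : 360 = Nat.lcm 120 9) ▸ Nat.lcm_dvd h1 h2
    have := Nat.le_of_dvd Nat.card_pos h4'
    omega
  · exact (h.seven hy).1 (dvd_trans (by norm_num) h4)

end Hyp

end CfsgLib.AltSevenOrder
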