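import Cfsg.Agent.AltSevenOrder.Big

/-!
# The Sylow two-subgroups are not elementary abelian
-/

set_option autoImplicit false
set_option linter.style.haveILetI false
set_option linter.unusedSectionVars false

namespace CfsgLib.AltSevenOrder

open Subgroup MulAction
open scoped Classical

universe u

variable {G : Type u} [Group G] [Finite G] [IsSimpleGroup G]

omit [IsSimpleGroup G] in
theorem mem_normalizer_zpowers {s r : G} (hr : s * r * s⁻¹ ∈ zpowers r) :
    s ∈ normalizer ((zpowers r : Subgroup G) : Set G) := by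
  have e : (zpowers r).map (MulAut.conj s).toMonoidHom = zpowers r := by
    refine eq_of_le_of_card_ge ?_ (Subgroup.card_map_of_injective (MulAut.conj s).injective).ge
    rintro _ ⟨_, ⟨i, rfl⟩, rfl⟩
    simp only [MulEquiv.coe_toMonoidHom, MulAut.conj_apply, ← conj_zpow]
    exact zpow_mem hr i
  refine mem_normalizer_iff.2 fun x => ⟨fun hx => e ▸ ⟨x, hx, rfl⟩, fun hx => ?_⟩
  rw [← e] at hx
  obtain ⟨z, hz, hze⟩ := hx
  rwa [← (MulAut.conj s).injective hze]

omit [IsSimpleGroup G] in
/-- Counting the other Sylow subgroups by the orbits of an elementary one. -/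
theorem dvd_card_sylow [Fact (Nat.Prime 2)] (S : Sylow 2 G) (hsq : ∀ s ∈ (S : Subgroup G), s * s = 1)
    {d : ℕ} (hd : ∀ Q : Sylow 2 G, Q ≠ S →
      d * Nat.card ((S : Subgroup G) ⊓ (Q : Subgroup G) : Subgroup G) ∣ Nat.card (S : Subgroup G)) :
    d ∣ Nat.card (Sylow 2 G) - 1 := by
  haveI := Fintype.ofFinite (Sylow 2 G)
  haveI := Fintype.ofFinite (S : Subgroup G)
  have hfix : ∀ s : (S : Subgroup G), (s : G) • S = S := fun s =>
    Sylow.smul_eq_iff_mem_normalizer.2 (le_normalizer s.2)
  letI : MulAction (S : Subgroup G) {Q : Sylow 2 G // Q ≠ S} :=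
    { smul := fun s Q => ⟨(s : G) • Q.1, fun e => Q.2 (smul_left_cancel (s : G) (e.trans (hfix s).symm))⟩
      one_smul := fun Q => Subtype.ext (one_smul G Q.1)
      mul_smul := fun a b Q => Subtype.ext (mul_smul (a : G) (b : G) Q.1) }
  have hX : Fintype.card {Q : Sylow 2 G // Q ≠ S} = Nat.card (Sylow 2 G) - 1 := by
    rw [Fintype.card_subtype_compl, Fintype.card_subtype_eq, Nat.card_eq_fintype_card]
  rw [← hX, MulAction.card_eq_sum_card_group_div_card_stabilizer (S : Subgroup G)]
  refine Finset.dvd_sum fun ω _ => ?_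
  have hst : Fintype.card (stabilizer (S : Subgroup G) ω.out) =
      Nat.card ((S : Subgroup G) ⊓ (ω.out.1 : Subgroup G) : Subgroup G) := by
    rw [← Nat.card_eq_fintype_card]
    refine Nat.card_congr
      { toFun := fun s => ⟨s.1.1, Subgroup.mem_inf.2 ⟨s.1.2, ?_⟩⟩
        invFun := fun s => ⟨⟨s.1, (Subgroup.mem_inf.1 s.2).1⟩, ?_⟩
        left_inv := fun _ => rfl
        right_inv := fun _ => rfl }
    · exact CfsgLib.SmallSimple.mem_sylow_of_smul_eq (n := 1) (by rw [pow_one, sq]; exact hsq _ s.1.2) _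
        (congrArg Subtype.val (mem_stabilizer_iff.1 s.2))
    · refine mem_stabilizer_iff.2 (Subtype.ext ?_)
      exact Sylow.smul_eq_iff_mem_normalizer.2 (le_normalizer (Subgroup.mem_inf.1 s.2).2)
  rw [hst, ← Nat.card_eq_fintype_card]
  obtain ⟨c, hc⟩ := hd ω.out.1 ω.out.2
  rw [hc, mul_assoc, mul_left_comm, Nat.mul_div_cancel_left _ Nat.card_pos]
  exact dvd_mul_right _ _

omit [IsSimpleGroup G] in
/-- Uniqueness of a Sylow subgroup of prime order normalised by a group of order eight. -/
theorem eq_of_normalized {M S : Subgroup G} {p m : ℕ} [Fact p.Prime] (hp8 : ¬ p ∣ 8)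
    (hS : Nat.card S = 8) (hSM : S ≤ M) (hM : Nat.card M = p * (8 * m)) (hm : ¬ p ∣ m)
    (hone : ∀ k : ℕ, k ∣ m → k % p = 1 → k = 1) {R R' : Subgroup G} (hR : R ≤ M) (hR' : R' ≤ M)
    (hc : Nat.card R = p) (hc' : Nat.card R' = p) (hSR : S ≤ normalizer (R : Set G)) : R' = R := by
  have hcs : ∀ P : Sylow p M, Nat.card (P : Subgroup M) = p := fun P => by
    rw [CfsgLib.SmallSimple.card_sylow_eq P (k := 1) (m := 8 * m) (by rw [pow_one]; exact hM)
      (fun hd => ((Fact.out : p.Prime).dvd_mul.1 hd).elim hp8 hm), pow_one]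
  have key : ∀ R : Subgroup G, R ≤ M → Nat.card R = p →
      ∃ P : Sylow p M, R.subgroupOf M = (P : Subgroup M) := by
    intro R hR hc
    have hRc : Nat.card (R.subgroupOf M) = p := by rw [Nat.card_congr (subgroupOfEquivOfLe hR).toEquiv, hc]
    obtain ⟨P, hP⟩ := (IsPGroup.of_card (n := 1) (hRc.trans (pow_one p).symm)).exists_le_sylow
    exact ⟨P, eq_of_le_of_card_ge hP (by rw [hcs, hRc])⟩
  obtain ⟨P, hP⟩ := key R hR hc
  obtain ⟨P', hP'⟩ := key R' hR' hc'
  have hmul := CfsgLib.SmallSimple.card_sylow_mul P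
  have hN : normalizer ((P : Subgroup M) : Set M) = (normalizer (R : Set G)).subgroupOf M := by
    rw [← hP]; exact (subgroupOf_normalizer_eq hR).symm
  rw [hN, ← inf_subgroupOf_right, Nat.card_congr (subgroupOfEquivOfLe inf_le_right).toEquiv, hM] at hmul
  have hd : 8 * p ∣ Nat.card (normalizer (R : Set G) ⊓ M : Subgroup G) :=
    Nat.Coprime.mul_dvd_of_dvd_of_dvd
      (Nat.Coprime.symm ((Fact.out : p.Prime).coprime_iff_not_dvd.2 hp8))
      (hS ▸ card_dvd_of_le (le_inf hSR hSM)) (hc ▸ card_dvd_of_le (le_inf le_normalizer hR))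
  obtain ⟨c, hcd⟩ := hd
  rw [hcd] at hmul
  have hk : Nat.card (Sylow p M) ∣ m := ⟨c, Nat.eq_of_mul_eq_mul_left
    (Nat.mul_pos (by norm_num : 0 < 8) (Fact.out : p.Prime).pos) (by linarith)⟩
  have h1 := hone _ hk (Eq.trans (card_sylow_modEq_one p M) (Nat.mod_eq_of_lt (Fact.out : p.Prime).one_lt))
  haveI : Subsingleton (Sylow p M) := (Nat.card_eq_one_iff_unique.1 h1).1
  have e : R'.subgroupOf M = R.subgroupOf M := by rw [hP, hP', Subsingleton.elim P' P]
  rw [subgroupOf_inj, inf_eq_left.2 hR', inf_eq_left.2 hR] at e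
  exact e

omit [IsSimpleGroup G] in
/-- A normalised pair of subgroups gives a normalised join. -/
theorem le_normalizer_sup {C A B : Subgroup G} (hA : C ≤ normalizer (A : Set G))
    (hB : C ≤ normalizer (B : Set G)) : C ≤ normalizer ((A ⊔ B : Subgroup G) : Set G) := by
  intro c hc
  have key : ∀ X : Subgroup G, c ∈ normalizer (X : Set G) → X.map (MulAut.conj c).toMonoidHom = X := by
    intro X hX
    ext x
    refine ⟨fun hx => ?_, fun hx => ⟨c⁻¹ * x * c, (mem_normalizer_iff''.1 hX x).1 hx, ?_⟩⟩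
    · obtain ⟨z, hz, rfl⟩ := hx
      exact (mem_normalizer_iff.1 hX z).1 hz
    · simp only [MulEquiv.coe_toMonoidHom, MulAut.conj_apply]
      group
  have e : (A ⊔ B).map (MulAut.conj c).toMonoidHom = A ⊔ B := by
    rw [Subgroup.map_sup, key A (hA hc), key B (hB hc)]
  refine mem_normalizer_iff.2 fun x => ⟨fun hx => e ▸ ⟨x, hx, rfl⟩, fun hx => ?_⟩
  rw [← e] at hx
  obtain ⟨z, hz, hze⟩ := hx
  rwa [← (MulAut.conj c).injective hze]

namespace Hyp

variable (h : Hyp G) [Fact (Nat.Prime 2)] [Fact (Nat.Prime 3)]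
include h

theorem card_two (S : Sylow 2 G) : Nat.card (S : Subgroup G) = 8 := by
  rw [CfsgLib.SmallSimple.card_sylow_eq S (k := 3) (m := 315) (by rw [h.card]; norm_num) (by norm_num)]
  norm_num

/-- No element of odd prime order centralises a Sylow two-subgroup. -/
theorem no_centralizing (S : Sylow 2 G) {q : ℕ} (hq : q.Prime) (hq2 : q ≠ 2) {x : G} (hx : orderOf x = q)
    (hS : (S : Subgroup G) ≤ centralizer ({x} : Set G)) : False := by
  have h8 : 8 ∣ Nat.card (centralizer ({x} : Set G)) := h.card_two S ▸ card_dvd_of_le hS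
  have hd : q ∣ 2520 := hx ▸ h.card ▸ orderOf_dvd_natCard x
  rw [show (2520 : ℕ) = 2 ^ 3 * (3 ^ 2 * (5 * 7)) by norm_num] at hd
  rcases hq.dvd_mul.1 hd with hd | hd
  · exact hq2 ((Nat.prime_dvd_prime_iff_eq hq Nat.prime_two).1 (hq.dvd_of_dvd_pow hd))
  rcases hq.dvd_mul.1 hd with hd | hd
  · exact h.no_eight_three (hx.trans ((Nat.prime_dvd_prime_iff_eq hq Nat.prime_three).1 (hq.dvd_of_dvd_pow hd))) h8
  rcases hq.dvd_mul.1 hd with hd | hd
  · exact (h.five (hx.trans ((Nat.prime_dvd_prime_iff_eq hq (by norm_num)).1 hd))).1 h8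
  · exact (h.seven (hx.trans ((Nat.prime_dvd_prime_iff_eq hq (by norm_num)).1 hd))).1 (dvd_trans (by norm_num) h8)

variable (S : Sylow 2 G) (hsq : ∀ s ∈ (S : Subgroup G), s * s = 1)
include hsq

theorem comm_two {a b : G} (ha : a ∈ (S : Subgroup G)) (hb : b ∈ (S : Subgroup G)) : a * b = b * a := by
  calc a * b = a * ((a * b) * (a * b)) * b := by rw [hsq _ (mul_mem ha hb), mul_one]
    _ = (a * a) * (b * a) * (b * b) := by group
    _ = b * a := by rw [hsq a ha, hsq b hb, one_mul, mul_one]

theorem order_two {a : G} (ha : a ∈ (S : Subgroup G)) (ha1 : a ≠ 1) : orderOf a = 2 :=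
  orderOf_eq_prime (by rw [sq]; exact hsq a ha) ha1

theorem exists_seven : ∃ y ∈ normalizer ((S : Subgroup G) : Set G), orderOf y = 7 := by
  set N := normalizer ((S : Subgroup G) : Set G) with hNdef
  by_contra hno
  haveI : Fact (Nat.Prime 7) := ⟨by norm_num⟩
  have h7 : ¬ 7 ∣ Nat.card N := fun hd => by
    obtain ⟨y, hy⟩ := exists_prime_orderOf_dvd_card' 7 hd
    exact hno ⟨y, y.2, (Subgroup.orderOf_coe y).trans hy⟩
  have h5 : ¬ 5 ∣ Nat.card N := fun hd => by
    haveI : Fact (Nat.Prime 5) := ⟨by norm_num⟩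
    obtain ⟨y, hy⟩ := exists_prime_orderOf_dvd_card' 5 hd
    have hy' : orderOf (y : G) = 5 := (Subgroup.orderOf_coe y).trans hy
    have hf := fixed_card (q := 5) (by rw [← hy', pow_orderOf_eq_one]) y.2
    have hd' := card_inf_dvd (S : Subgroup G) (centralizer ({(y : G)} : Set G))
    rw [h.card_two] at hf hd'
    have hle' := Nat.le_of_dvd (by norm_num) hd'
    refine h.no_centralizing S (by norm_num) (by norm_num) hy' (le_centralizer_of_card ?_)
    rw [h.card_two]
    interval_cases hn : Nat.card ((S : Subgroup G) ⊓ centralizer ({(y : G)} : Set G) : Subgroup G) <;> omega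
  have h8 : 8 ∣ Nat.card N := h.card_two S ▸ card_dvd_of_le le_normalizer
  obtain ⟨e, he⟩ := h8
  have hed : e ∣ 315 := Nat.dvd_of_mul_dvd_mul_left (by norm_num : 0 < 8)
    (by rw [← he]; exact (Subgroup.card_subgroup_dvd_card N).trans (by rw [h.card]))
  have he9 : e ∣ 9 := by
    have h1 : e.Coprime 35 := Nat.Coprime.mul_right (m := 5) (n := 7)
      ((Nat.coprime_comm).1 ((Fact.out : Nat.Prime 7).coprime_iff_not_dvd.2 fun hd => h7 (he ▸ hd.mul_left 8)) |> fun _ =>
        (Nat.coprime_comm).1 ((by norm_num : Nat.Prime 5).coprime_iff_not_dvd.2 fun hd => h5 (he ▸ hd.mul_left 8)))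
      ((Nat.coprime_comm).1 ((Fact.out : Nat.Prime 7).coprime_iff_not_dvd.2 fun hd => h7 (he ▸ hd.mul_left 8)))
    exact h1.dvd_of_dvd_mul_right (by norm_num; exact hed)
  obtain ⟨R⟩ : Nonempty (Sylow 3 N) := inferInstance
  have hRc : Nat.card (R : Subgroup N) = e := by
    have hcop : Nat.Coprime 3 8 := by norm_num
    obtain ⟨j, -, rfl⟩ := (Nat.dvd_prime_pow Nat.prime_three).1 (show e ∣ 3 ^ 2 by norm_num; exact he9)
    rw [CfsgLib.SmallSimple.card_sylow_eq R (k := j) (m := 8) (by rw [he, mul_comm]) (by norm_num)]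
  letI : MulAction (R : Subgroup N) (S : Subgroup G) :=
    { smul := fun a d => ⟨((a : N) : G) * d * ((a : N) : G)⁻¹, (mem_normalizer_iff.1 (a : N).2 d).1 d.2⟩
      one_smul := fun d => Subtype.ext (show (1 : G) * d * (1 : G)⁻¹ = d by simp)
      mul_smul := fun a b d => Subtype.ext (show (((a : N) : G) * ((b : N) : G)) * d * (((a : N) : G) * ((b : N) : G))⁻¹ =
        ((a : N) : G) * (((b : N) : G) * d * ((b : N) : G)⁻¹) * ((a : N) : G)⁻¹ by group) }
  have hmod := R.isPGroup'.card_modEq_card_fixedPoints (S : Subgroup G)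
  rw [h.card_two] at hmod
  obtain ⟨u, hu1⟩ : ∃ u : fixedPoints (R : Subgroup N) (S : Subgroup G), u.1 ≠ 1 := by
    by_contra hall
    push Not at hall
    haveI : Subsingleton (fixedPoints (R : Subgroup N) (S : Subgroup G)) :=
      ⟨fun a b => Subtype.ext ((hall a).trans (hall b).symm)⟩
    have h1 : Nat.card (fixedPoints (R : Subgroup N) (S : Subgroup G)) ≤ 1 :=
      Finite.card_le_one_iff_subsingleton.2 inferInstance
    rw [Nat.ModEq] at hmod
    omega
  have hu1' : ((u.1 : (S : Subgroup G)) : G) ≠ 1 := fun e => hu1 (Subtype.ext e)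
  refine hu1' (h.eq_one_of_central S (fun a ha b hb => h.comm_two S hsq ha hb) u.1.2 ?_)
  set K := N ⊓ centralizer ({((u.1 : (S : Subgroup G)) : G)} : Set G) with hK
  have hKN : K = N := by
    refine eq_of_le_of_card_ge inf_le_left (Nat.le_of_dvd Nat.card_pos ?_)
    rw [he]
    refine Nat.Coprime.mul_dvd_of_dvd_of_dvd ?_ ?_ ?_
    · exact Nat.Coprime.coprime_dvd_right he9 (by norm_num)
    · refine h.card_two S ▸ card_dvd_of_le (le_inf le_normalizer fun s hs => ?_)
      exact mem_centralizer_singleton_iff.2 (h.comm_two S hsq hs u.1.2)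
    · have hle : (R : Subgroup N).map N.subtype ≤ K := by
        rintro _ ⟨r, hr, rfl⟩
        refine Subgroup.mem_inf.2 ⟨r.2, mem_centralizer_singleton_iff.2 ?_⟩
        have h1 : ((r : N) : G) * ((u.1 : (S : Subgroup G)) : G) * ((r : N) : G)⁻¹ = ((u.1 : (S : Subgroup G)) : G) :=
          congrArg Subtype.val (u.2 ⟨r, hr⟩)
        exact mul_inv_eq_iff_eq_mul.1 h1
      have := card_dvd_of_le hle
      rwa [Subgroup.card_map_of_injective N.subtype_injective, hRc] at this
  intro n hn
  exact mem_centralizer_singleton_iff.1 (Subgroup.mem_inf.1 (hKN.ge hn)).2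

theorem false_of_centralized {T : Subgroup G} (hTS : T ≤ (S : Subgroup G)) (hT1 : T ≠ ⊥)
    (hNT : normalizer ((S : Subgroup G) : Set G) ⊓ centralizer (T : Set G) ≤ (S : Subgroup G))
    (hne : ¬ centralizer (T : Set G) ≤ (S : Subgroup G)) : False := by
  set D := centralizer (T : Set G) with hD
  have hSD : (S : Subgroup G) ≤ D := fun s hs => mem_centralizer_iff.2 fun t ht =>
    h.comm_two S hsq (hTS ht) hs
  obtain ⟨t, htT, ht1⟩ := (Subgroup.bot_or_exists_ne_one T).resolve_left hT1
  have hto := h.order_two S hsq (hTS htT) ht1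
  have hD280 : Nat.card D ≤ 280 := (Subgroup.card_le_of_le (show D ≤ centralizer ({t} : Set G) from
    fun g hg => mem_centralizer_singleton_iff.2 (mem_centralizer_iff.1 hg t htT).symm)).trans
      (h.card_centralizer_le ht1)
  obtain ⟨m, hm⟩ : 8 ∣ Nat.card D := h.card_two S ▸ card_dvd_of_le hSD
  have hmd : m ∣ 315 := Nat.dvd_of_mul_dvd_mul_left (by norm_num : 0 < 8)
    (by rw [← hm]; exact (Subgroup.card_subgroup_dvd_card D).trans (by rw [h.card]))
  have hm1 : m ≠ 1 := fun e => hne (eq_of_le_of_card_ge hSD (by rw [hm, e, h.card_two])).ge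
  have h7 : ¬ 7 ∣ m := fun hd => by
    haveI : Fact (Nat.Prime 7) := ⟨by norm_num⟩
    obtain ⟨z, hz⟩ := exists_prime_orderOf_dvd_card' (G := D) 7 (hm ▸ hd.mul_left 8)
    exact h.not_commute_seven (x := t) ((Subgroup.orderOf_coe z).trans hz)
      (mem_centralizer_iff.1 z.2 t htT) (Or.inl hto)
  set P : Sylow 2 D := S.subtype hSD
  have hP : normalizer ((P : Subgroup D) : Set D) ≤ centralizer ((P : Subgroup D) : Set D) := by
    intro n hn
    have hn' : (n : G) ∈ normalizer ((S : Subgroup G) : Set G) := by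
      have e : normalizer ((P : Subgroup D) : Set D) = (normalizer ((S : Subgroup G) : Set G)).subgroupOf D :=
        (subgroupOf_normalizer_eq hSD).symm
      rw [e] at hn
      exact hn
    refine mem_centralizer_iff.2 fun a ha => Subtype.ext ?_
    exact h.comm_two S hsq ha (hNT (Subgroup.mem_inf.2 ⟨hn', n.2⟩))
  have hPc : Nat.card (P : Subgroup D) = 8 := by
    show Nat.card ((S : Subgroup G).subgroupOf D) = 8
    rw [Nat.card_congr (subgroupOfEquivOfLe hSD).toEquiv, h.card_two]
  obtain ⟨M, hMD, hMc, hMn, -⟩ := exists_complement P hP hPc hm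
  -- a subgroup of prime order normalised by the Sylow subgroup
  obtain ⟨q, R, hq, hRc, hRD, hSR⟩ : ∃ q, ∃ R : Subgroup G, (q = 3 ∨ q = 5) ∧ Nat.card R = q ∧ R ≤ D ∧
      (S : Subgroup G) ≤ normalizer (R : Set G) := by
    have hm35 : m ≤ 35 := by omega
    have hmem : m = 3 ∨ m = 5 ∨ m = 9 ∨ m = 15 := by
      interval_cases m <;> omega
    rcases hmem with e | e | e | e <;> rw [e] at hMc
    · exact ⟨3, M, Or.inl rfl, hMc, hMD, hSD.trans hMn⟩
    · exact ⟨5, M, Or.inr rfl, hMc, hMD, hSD.trans hMn⟩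
    · exfalso
      obtain ⟨P3, hP3⟩ := (IsPGroup.of_card (p := 3) (n := 2) (hMc.trans (by norm_num))).exists_le_sylow
      have hPM : (P3 : Subgroup G) = M :=
        (eq_of_le_of_card_ge hP3 (by rw [hMc, h.card_three])).symm
      have h1 := card_dvd_of_le (hSD.trans (hPM.symm ▸ hMn))
      rw [h.card_two] at h1
      rw [h.card_normalizer_three P3 (dvd_trans (by norm_num) h1)] at h1
      norm_num at h1
    · haveI : Fact (Nat.Prime 5) := ⟨by norm_num⟩
      obtain ⟨z, hz⟩ := exists_prime_orderOf_dvd_card' (G := M) 5 (by rw [hMc]; norm_num)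
      have hz' : orderOf (z : G) = 5 := (Subgroup.orderOf_coe z).trans hz
      refine ⟨5, zpowers (z : G), Or.inr rfl, by rw [Nat.card_zpowers, hz'], (zpowers_le.2 z.2).trans hMD, ?_⟩
      exact (hSD.trans hMn).trans (normalizes_of_unique (r := 5) (by rw [Nat.card_zpowers, hz'])
        (zpowers_le.2 z.2) fun R' h1 h2 =>
        eq_of_card_sylow_one (p := 5) (m := 3) (hMc.trans (by norm_num)) (by norm_num)
          (fun k hk h5 => by have := Nat.le_of_dvd (by norm_num) hk; interval_cases k <;> omega)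
          (zpowers_le.2 z.2) h1 (by rw [Nat.card_zpowers, hz']) h2)
  haveI : Fact q.Prime := ⟨by rcases hq with rfl | rfl <;> norm_num⟩
  haveI : IsCyclic R := isCyclic_of_prime_card hRc
  obtain ⟨r, hr⟩ : ∃ r : G, R = zpowers r := by
    obtain ⟨g, hg⟩ := IsCyclic.exists_generator (α := R)
    refine ⟨g, le_antisymm (fun x hx => ?_) (zpowers_le.2 g.2)⟩
    obtain ⟨i, hi⟩ := Subgroup.mem_zpowers_iff.1 (hg ⟨x, hx⟩)
    exact Subgroup.mem_zpowers_iff.2 ⟨i, congrArg Subtype.val hi⟩
  subst hr
  rw [Nat.card_zpowers] at hRc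
  set K := (S : Subgroup G) ⊓ centralizer ({r} : Set G) with hK
  have hTK : T ≤ K := fun x hx => Subgroup.mem_inf.2 ⟨hTS hx, mem_centralizer_singleton_iff.2
    (mem_centralizer_iff.1 (hRD (mem_zpowers r)) x hx)⟩
  have hsign : ∀ s ∈ (S : Subgroup G), s * r * s⁻¹ = r ∨ s * r * s⁻¹ = r⁻¹ := by
    intro s hs
    have hm := (mem_normalizer_iff.1 (hSR hs) r).1 (mem_zpowers r)
    rw [mem_zpowers_iff_mem_range_orderOf, Finset.mem_image] at hm
    obtain ⟨i, hi, he⟩ := hm
    rw [Finset.mem_range, hRc] at hi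
    have e2 : r ^ (i * i) = r ^ 1 := by
      rw [pow_mul, he, conj_pow, he, pow_one]
      calc s * (s * r * s⁻¹) * s⁻¹ = (s * s) * r * (s * s)⁻¹ := by group
        _ = r := by rw [hsq s hs]; group
    rw [pow_eq_pow_iff_modEq, hRc, Nat.ModEq] at e2
    rw [← he]
    rcases hq with rfl | rfl
    · interval_cases i
      · omega
      · exact Or.inl (pow_one r)
      · exact Or.inr (eq_inv_of_mul_eq_one_left (by rw [← pow_succ]; exact orderOf_dvd_iff_pow_eq_one.1 (dvd_of_eq hRc)))
    · interval_cases i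
      · omega
      · exact Or.inl (pow_one r)
      · omega
      · omega
      · exact Or.inr (eq_inv_of_mul_eq_one_left (by rw [← pow_succ]; exact orderOf_dvd_iff_pow_eq_one.1 (dvd_of_eq hRc)))
  have hS8 : ¬ (S : Subgroup G) ≤ centralizer ({r} : Set G) :=
    h.no_centralizing S (Fact.out : q.Prime) (by rcases hq with rfl | rfl <;> norm_num) hRc
  obtain ⟨s₀, hs₀, hs₀'⟩ := SetLike.not_le_iff_exists.1 hS8
  have hinv₀ : s₀ * r * s₀⁻¹ = r⁻¹ := (hsign s₀ hs₀).resolve_left fun e =>
    hs₀' (mem_centralizer_singleton_iff.2 (mul_inv_eq_iff_eq_mul.1 e))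
  have hK4 : Nat.card K = 4 := by
    have hd := card_inf_dvd (S : Subgroup G) (centralizer ({r} : Set G))
    rw [h.card_two, ← hK] at hd
    have hlt : Nat.card K ≠ 8 := fun e => hS8 (le_centralizer_of_card (e.trans (h.card_two S).symm))
    have hbig : 8 ≤ 2 * Nat.card K := by
      have hb : ∀ s : (S : Subgroup G), (s : G) ∈ K ∨ s₀ * s ∈ K := by
        intro s
        rcases hsign s s.2 with e | e
        · exact Or.inl (Subgroup.mem_inf.2 ⟨s.2, mem_centralizer_singleton_iff.2 (mul_inv_eq_iff_eq_mul.1 e)⟩)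
        · refine Or.inr (Subgroup.mem_inf.2 ⟨mul_mem hs₀ s.2, mem_centralizer_singleton_iff.2
            (mul_inv_eq_iff_eq_mul.1 ?_)⟩)
          calc s₀ * s * r * (s₀ * s)⁻¹ = s₀ * (s * r * (s : G)⁻¹) * s₀⁻¹ := by group
            _ = (s₀ * r * s₀⁻¹)⁻¹ := by rw [e]; group
            _ = r := by rw [hinv₀, inv_inv]
      let f : ↥(S : Subgroup G) → Bool × K := fun s =>
        if hs : (s : G) ∈ K then (true, ⟨s, hs⟩) else (false, ⟨s₀ * s, (hb s).resolve_left hs⟩)
      have hf : Function.Injective f := by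
        intro a b hab
        simp only [f] at hab
        split_ifs at hab with ha hb' hb'
        · exact Subtype.ext (congrArg (fun k : K => (k : G)) (Prod.mk.inj hab).2)
        · simp at hab
        · simp at hab
        · exact Subtype.ext (mul_left_cancel (congrArg (fun k : K => (k : G)) (Prod.mk.inj hab).2))
      have := Nat.card_le_card_of_injective f hf
      rw [h.card_two, Nat.card_prod, Nat.card_eq_fintype_card, Fintype.card_bool] at this
      exact this
    have := Nat.le_of_dvd (by norm_num) hd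
    interval_cases hn : Nat.card K <;> omega
  obtain ⟨y, hyN, hy⟩ := h.exists_seven S hsq
  haveI : Fact (Nat.Prime 7) := ⟨by norm_num⟩
  have hyS : ∀ x, x ∈ (S : Subgroup G) ↔ y * x * y⁻¹ ∈ (S : Subgroup G) := mem_normalizer_iff.1 hyN
  set K' := K.map (MulAut.conj y).toMonoidHom with hK'
  have hK'S : K' ≤ (S : Subgroup G) := by
    rintro _ ⟨x, hx, rfl⟩
    exact (hyS x).1 (Subgroup.mem_inf.1 hx).1
  have hK'c : Nat.card K' = 4 := by rw [hK', Subgroup.card_map_of_injective (MulAut.conj y).injective, hK4]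
  have hne' : K' ≠ K := by
    intro e
    have hyK : y ∈ normalizer (K : Set G) := by
      refine mem_normalizer_iff.2 fun x => ⟨fun hx => e ▸ ⟨x, hx, rfl⟩, fun hx => ?_⟩
      rw [← e] at hx
      obtain ⟨z, hz, hze⟩ := hx
      rwa [← (MulAut.conj y).injective hze]
    have hf := fixed_card (q := 7) (by rw [← hy, pow_orderOf_eq_one]) hyK
    have hd := card_inf_dvd K (centralizer ({y} : Set G))
    rw [hK4] at hf hd
    have hle' := Nat.le_of_dvd (by norm_num) hd
    have h4 : Nat.card (K ⊓ centralizer ({y} : Set G) : Subgroup G) = 4 := by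
      interval_cases hn : Nat.card (K ⊓ centralizer ({y} : Set G) : Subgroup G) <;> omega
    obtain ⟨x, hx, hx1⟩ := (Subgroup.bot_or_exists_ne_one K).resolve_left fun eb => by
      rw [eb, Subgroup.card_bot] at hK4; omega
    exact h.not_commute_seven hy
      (mem_centralizer_singleton_iff.1 (le_centralizer_of_card (h4.trans hK4.symm) hx))
      (Or.inl (h.order_two S hsq (Subgroup.mem_inf.1 hx).1 hx1))
  obtain ⟨v, hvK, hvK', hv1⟩ : ∃ v, v ∈ K ∧ v ∈ K' ∧ v ≠ 1 := by
    by_contra hall
    push Not at hall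
    let f : K × K' → ↥(S : Subgroup G) := fun p =>
      ⟨p.1 * p.2, mul_mem (Subgroup.mem_inf.1 p.1.2).1 (hK'S p.2.2)⟩
    have hf : Function.Injective f := by
      rintro ⟨a, b⟩ ⟨c, d⟩ hab
      have e : (a : G) * b = c * d := congrArg Subtype.val hab
      have e' : (c : G)⁻¹ * a = d * (b : G)⁻¹ := by
        rw [eq_mul_inv_iff_mul_eq, mul_assoc, e, inv_mul_cancel_left]
      have h1 : (c : G)⁻¹ * a = 1 :=
        hall _ (mul_mem (inv_mem c.2) a.2) (e' ▸ mul_mem d.2 (inv_mem b.2))
      rw [h1] at e'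
      exact Prod.ext (Subtype.ext (inv_mul_eq_one.1 h1).symm) (Subtype.ext (mul_inv_eq_one.1 e'.symm).symm)
    have := Nat.card_le_card_of_injective f hf
    rw [Nat.card_prod, hK4, hK'c, h.card_two] at this
    omega
  set r' := y * r * y⁻¹ with hr'
  set C := centralizer ({v} : Set G) with hC
  have hvS : v ∈ (S : Subgroup G) := (Subgroup.mem_inf.1 hvK).1
  have hSC : (S : Subgroup G) ≤ C := fun s hs => mem_centralizer_singleton_iff.2 (h.comm_two S hsq hs hvS)
  have hrC : r ∈ C := mem_centralizer_singleton_iff.2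
    (mem_centralizer_singleton_iff.1 (Subgroup.mem_inf.1 hvK).2).symm
  have hr'C : r' ∈ C := by
    obtain ⟨k, hk, hkv⟩ := hvK'
    simp only [MulEquiv.coe_toMonoidHom, MulAut.conj_apply] at hkv
    refine mem_centralizer_singleton_iff.2 ?_
    rw [hr', ← hkv]
    have := mem_centralizer_singleton_iff.1 (Subgroup.mem_inf.1 hk).2
    calc y * r * y⁻¹ * (y * k * y⁻¹) = y * (r * k) * y⁻¹ := by group
      _ = y * (k * r) * y⁻¹ := by rw [this]
      _ = y * k * y⁻¹ * (y * r * y⁻¹) := by group
  have hr'o : orderOf r' = q := by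
    rw [hr', ← MulAut.conj_apply, MulEquiv.orderOf_eq, hRc]
  have hSR' : (S : Subgroup G) ≤ normalizer ((zpowers r' : Subgroup G) : Set G) := by
    intro s hs
    refine mem_normalizer_zpowers ?_
    have hs' : y⁻¹ * s * y ∈ (S : Subgroup G) := (hyS _).2 (by group; exact hs)
    have e : s * r' * s⁻¹ = y * ((y⁻¹ * s * y) * r * (y⁻¹ * s * y)⁻¹) * y⁻¹ := by rw [hr']; group
    rw [e]
    rcases hsign _ hs' with e' | e' <;> rw [e']
    · exact mem_zpowers _
    · rw [show y * r⁻¹ * y⁻¹ = r'⁻¹ by rw [hr']; group]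
      exact inv_mem (mem_zpowers _)
  obtain ⟨a, haC⟩ : 8 ∣ Nat.card C := h.card_two S ▸ card_dvd_of_le hSC
  have had : a ∣ 315 := Nat.dvd_of_mul_dvd_mul_left (by norm_num : 0 < 8)
    (by rw [← haC]; exact (Subgroup.card_subgroup_dvd_card C).trans (by rw [h.card]))
  have ha35 : a ≤ 35 := by
    have := h.card_centralizer_le hv1
    rw [← hC, haC] at this
    omega
  have ha7 : ¬ 7 ∣ a := fun hd => by
    obtain ⟨z, hz⟩ := exists_prime_orderOf_dvd_card' (G := C) 7 (haC ▸ hd.mul_left 8)
    exact h.not_commute_seven (x := v) ((Subgroup.orderOf_coe z).trans hz)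
      (mem_centralizer_singleton_iff.1 z.2).symm (Or.inl (h.order_two S hsq hvS hv1))
  have hqa : q ∣ a := by
    have h1 : q ∣ 8 * a := haC ▸ hRc ▸ C.orderOf_dvd_natCard hrC
    exact Nat.Coprime.dvd_of_dvd_mul_left (by rcases hq with rfl | rfl <;> norm_num) h1
  have huniq : zpowers r' = zpowers r := by
    rcases hq with rfl | rfl
    · have hamem : a = 3 ∨ a = 9 ∨ a = 15 := by interval_cases a <;> omega
      rcases hamem with rfl | rfl | rfl
      · exact eq_of_normalized (S := (S : Subgroup G)) (p := 3) (m := 1) (by norm_num) (h.card_two S) hSC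
          (haC.trans (by norm_num)) (by norm_num) (fun k hk _ => Nat.dvd_one.1 hk)
          (zpowers_le.2 hrC) (zpowers_le.2 hr'C) (by rw [Nat.card_zpowers, hRc]) (by rw [Nat.card_zpowers, hr'o]) hSR
      · have hall : ∀ x : G, orderOf x = 3 → x ∈ C → (S : Subgroup G) ≤ normalizer ((zpowers x : Subgroup G) : Set G) →
            C ≤ normalizer ((zpowers x : Subgroup G) : Set G) := by
          intro x hx hxC hSx
          have hxC' : orderOf (⟨x, hxC⟩ : C) = 3 := by rw [← Subgroup.orderOf_coe]; exact hx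
          obtain ⟨Q, hQ'⟩ := (IsPGroup.of_card (p := 3) (n := 1) (G := zpowers (⟨x, hxC⟩ : C))
            (by rw [Nat.card_zpowers, hxC', pow_one])).exists_le_sylow
          have hQ : (⟨x, hxC⟩ : C) ∈ (Q : Subgroup C) := hQ' (mem_zpowers _)
          have hQc : Nat.card (Q : Subgroup C) = 9 := by
            rw [CfsgLib.SmallSimple.card_sylow_eq Q (k := 2) (m := 8) (haC.trans (by norm_num)) (by norm_num)]
            norm_num
          have hQm : (Q : Subgroup C).map C.subtype ≤ normalizer ((zpowers x : Subgroup G) : Set G) := by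
            rintro _ ⟨z, hz, rfl⟩
            haveI := IsPGroup.isMulCommutative_of_card_eq_prime_sq (p := 3) (G := (Q : Subgroup C))
              (by rw [hQc]; norm_num)
            have e : z * (⟨x, hxC⟩ : C) = ⟨x, hxC⟩ * z :=
              setLike_mul_comm (S := Subgroup C) hz hQ
            exact CfsgLib.SixThousand.centralizer_le x
              (mem_centralizer_singleton_iff.2 (congrArg Subtype.val e))
          have hcard : Nat.card C ∣ Nat.card (normalizer ((zpowers x : Subgroup G) : Set G) ⊓ C : Subgroup G) := by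
            rw [haC]
            refine Nat.Coprime.mul_dvd_of_dvd_of_dvd (by norm_num)
              (h.card_two S ▸ card_dvd_of_le (le_inf hSx hSC)) ?_
            have := card_dvd_of_le (le_inf hQm (map_subtype_le (Q : Subgroup C)))
            rwa [Subgroup.card_map_of_injective C.subtype_injective, hQc] at this
          exact inf_eq_right.1 (eq_of_le_of_card_ge inf_le_right (Nat.le_of_dvd Nat.card_pos hcard))
        have hn := hall r hRc hrC hSR
        have hn' := hall r' hr'o hr'C hSR'
        by_contra hneq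
        -- two normal subgroups of order three generate a Sylow subgroup
        have hr'r : r' ∈ normalizer ((zpowers r : Subgroup G) : Set G) := hn hr'C
        have hpg : IsPGroup 3 (zpowers r ⊔ zpowers r' : Subgroup G) :=
          (IsPGroup.of_card (n := 1) (by rw [Nat.card_zpowers, hRc, pow_one])).to_sup_of_normal_left'
            (IsPGroup.of_card (n := 1) (by rw [Nat.card_zpowers, hr'o, pow_one])) (zpowers_le.2 hr'r)
        obtain ⟨P3, hP3⟩ := hpg.exists_le_sylow
        have heq : zpowers r ⊔ zpowers r' = (P3 : Subgroup G) := by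
          refine eq_of_le_of_card_ge hP3 ?_
          rw [h.card_three]
          obtain ⟨j, hj, hjc⟩ := (Nat.dvd_prime_pow Nat.prime_three).1
            ((card_dvd_of_le hP3).trans (by rw [h.card_three]; norm_num) :
              Nat.card (zpowers r ⊔ zpowers r' : Subgroup G) ∣ 3 ^ 2)
          interval_cases j
          · exfalso
            have := card_dvd_of_le (le_sup_left : zpowers r ≤ zpowers r ⊔ zpowers r')
            rw [Nat.card_zpowers, hRc, hjc] at this
            norm_num at this
          · exfalso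
            have e1 := eq_of_le_of_card_ge (le_sup_left : zpowers r ≤ zpowers r ⊔ zpowers r')
              (by rw [hjc, Nat.card_zpowers, hRc]; norm_num)
            exact hneq (eq_of_le_of_card_ge (e1.symm ▸ (le_sup_right : zpowers r' ≤ zpowers r ⊔ zpowers r'))
              (by rw [Nat.card_zpowers, Nat.card_zpowers, hRc, hr'o]))
          · rw [hjc]; norm_num
        have hle := le_normalizer_sup hn hn'
        rw [heq] at hle
        have h1 := card_dvd_of_le hle
        rw [haC] at h1
        rw [h.card_normalizer_three P3 (dvd_trans (by norm_num) h1)] at h1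
        norm_num at h1
      · exact eq_of_normalized (S := (S : Subgroup G)) (p := 3) (m := 5) (by norm_num) (h.card_two S) hSC
          (haC.trans (by norm_num)) (by norm_num)
          (fun k hk h3 => by have := Nat.le_of_dvd (by norm_num) hk; interval_cases k <;> omega)
          (zpowers_le.2 hrC) (zpowers_le.2 hr'C) (by rw [Nat.card_zpowers, hRc]) (by rw [Nat.card_zpowers, hr'o]) hSR
    · have hamem : a = 5 ∨ a = 15 := by interval_cases a <;> omega
      rcases hamem with rfl | rfl
      · exact eq_of_normalized (S := (S : Subgroup G)) (p := 5) (m := 1) (by norm_num) (h.card_two S) hSC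
          (haC.trans (by norm_num)) (by norm_num) (fun k hk _ => Nat.dvd_one.1 hk)
          (zpowers_le.2 hrC) (zpowers_le.2 hr'C) (by rw [Nat.card_zpowers, hRc]) (by rw [Nat.card_zpowers, hr'o]) hSR
      · exact eq_of_normalized (S := (S : Subgroup G)) (p := 5) (m := 3) (by norm_num) (h.card_two S) hSC
          (haC.trans (by norm_num)) (by norm_num)
          (fun k hk h3 => by have := Nat.le_of_dvd (by norm_num) hk; interval_cases k <;> omega)
          (zpowers_le.2 hrC) (zpowers_le.2 hr'C) (by rw [Nat.card_zpowers, hRc]) (by rw [Nat.card_zpowers, hr'o]) hSR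
  have hK'r : K' ≤ centralizer ({r} : Set G) := by
    rintro _ ⟨k, hk, rfl⟩
    refine mem_centralizer_singleton_iff.2 ?_
    simp only [MulEquiv.coe_toMonoidHom, MulAut.conj_apply]
    obtain ⟨i, hi⟩ := Subgroup.mem_zpowers_iff.1 (huniq.ge (mem_zpowers r))
    have hc : Commute (y * k * y⁻¹) r' := by
      show y * k * y⁻¹ * r' = r' * (y * k * y⁻¹)
      rw [hr']
      calc y * k * y⁻¹ * (y * r * y⁻¹) = y * (k * r) * y⁻¹ := by group
        _ = y * (r * k) * y⁻¹ := by rw [mem_centralizer_singleton_iff.1 (Subgroup.mem_inf.1 hk).2]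
        _ = y * r * y⁻¹ * (y * k * y⁻¹) := by group
    exact hi ▸ (hc.zpow_right i).eq
  have : K' ≤ K := le_inf hK'S hK'r
  exact hne' (eq_of_le_of_card_ge this (by rw [hK4, hK'c]))

/-- The Sylow subgroup is not elementary abelian. -/
theorem false_of_elementary : False := by
  set N := normalizer ((S : Subgroup G) : Set G) with hNdef
  obtain ⟨y, hyN, hy⟩ := h.exists_seven S hsq
  haveI : Fact (Nat.Prime 7) := ⟨by norm_num⟩
  haveI : Fact (Nat.Prime 5) := ⟨by norm_num⟩
  obtain ⟨e, he⟩ : 8 * 7 ∣ Nat.card N := Nat.Coprime.mul_dvd_of_dvd_of_dvd (by norm_num)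
    (h.card_two S ▸ card_dvd_of_le le_normalizer) (hy ▸ N.orderOf_dvd_natCard hyN)
  have hed : 8 * 7 * e ∣ 2520 := by rw [← he, ← h.card]; exact Subgroup.card_subgroup_dvd_card N
  have hNle : Nat.card N ≤ 280 := h.card_le (h.normalizer_ne_top
    (fun eb => by have := h.card_two S; rw [eb, Subgroup.card_bot] at this; omega) (by rw [h.card_two]; norm_num))
  have h5 : ¬ 5 ∣ Nat.card N := fun hd => by
    obtain ⟨z, hz⟩ := exists_prime_orderOf_dvd_card' 5 hd
    have hz' : orderOf (z : G) = 5 := (Subgroup.orderOf_coe z).trans hz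
    have hf := fixed_card (q := 5) (by rw [← hz', pow_orderOf_eq_one]) z.2
    have hd' := card_inf_dvd (S : Subgroup G) (centralizer ({(z : G)} : Set G))
    rw [h.card_two] at hf hd'
    have hle' := Nat.le_of_dvd (by norm_num) hd'
    refine h.no_centralizing S (by norm_num) (by norm_num) hz' (le_centralizer_of_card ?_)
    rw [h.card_two]
    interval_cases hn : Nat.card ((S : Subgroup G) ⊓ centralizer ({(z : G)} : Set G) : Subgroup G) <;> omega
  have he13 : e = 1 ∨ e = 3 := by
    have : e ≤ 5 := by omega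
    interval_cases e <;> omega
  have hmul := CfsgLib.SmallSimple.card_sylow_mul S
  rw [h.card, ← hNdef, he] at hmul
  -- odd order elements in the centraliser of a part of the Sylow subgroup
  have hgen : ∀ T : Subgroup G, T ≤ (S : Subgroup G) → T ≠ ⊥ → (e = 3 → Nat.card T = 4) →
      N ⊓ centralizer (T : Set G) ≤ (S : Subgroup G) := by
    intro T hTS hT1 hT4
    set X := N ⊓ centralizer (T : Set G) with hX
    have hSX : (S : Subgroup G) ≤ X := le_inf le_normalizer fun s hs =>
      mem_centralizer_iff.2 fun t ht => h.comm_two S hsq (hTS ht) hs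
    obtain ⟨t, htT, ht1⟩ := (Subgroup.bot_or_exists_ne_one T).resolve_left hT1
    have h7 : ¬ 7 ∣ Nat.card X := fun hd => by
      obtain ⟨z, hz⟩ := exists_prime_orderOf_dvd_card' 7 hd
      exact h.not_commute_seven (x := t) ((Subgroup.orderOf_coe z).trans hz)
        (mem_centralizer_iff.1 (Subgroup.mem_inf.1 z.2).2 t htT) (Or.inl (h.order_two S hsq (hTS htT) ht1))
    have h3 : ¬ 3 ∣ Nat.card X := fun hd => by
      obtain ⟨z, hz⟩ := exists_prime_orderOf_dvd_card' 3 hd
      have hz' : orderOf (z : G) = 3 := (Subgroup.orderOf_coe z).trans hz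
      have he3 : e = 3 := he13.resolve_left fun e1 => by
        have h1 := hd.trans (card_dvd_of_le (inf_le_left : X ≤ N))
        rw [he, e1] at h1
        norm_num at h1
      have hf := fixed_card (q := 3) (by rw [← hz', pow_orderOf_eq_one]) (Subgroup.mem_inf.1 z.2).1
      have hd' := card_inf_dvd (S : Subgroup G) (centralizer ({(z : G)} : Set G))
      have hT' : T ≤ (S : Subgroup G) ⊓ centralizer ({(z : G)} : Set G) := le_inf hTS fun x hx =>
        mem_centralizer_singleton_iff.2 (mem_centralizer_iff.1 (Subgroup.mem_inf.1 z.2).2 x hx)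
      have h4 := Subgroup.card_le_of_le hT'
      rw [hT4 he3] at h4
      rw [h.card_two] at hf hd'
      have hle' := Nat.le_of_dvd (by norm_num) hd'
      refine h.no_centralizing S (by norm_num) (by norm_num) hz' (le_centralizer_of_card ?_)
      rw [h.card_two]
      interval_cases hn : Nat.card ((S : Subgroup G) ⊓ centralizer ({(z : G)} : Set G) : Subgroup G) <;> omega
    have hXd := card_dvd_of_le (inf_le_left : X ≤ N)
    rw [← hX] at hXd
    obtain ⟨x, hx⟩ := h.card_two S ▸ card_dvd_of_le hSX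
    rw [hx, he, mul_assoc] at hXd
    have hx21 : x ∣ 7 * e := Nat.dvd_of_mul_dvd_mul_left (by norm_num : 0 < 8) hXd
    have hcop : x.Coprime (7 * e) := by
      refine Nat.Coprime.mul_right ?_ ?_
      · exact (Nat.coprime_comm).1 ((Fact.out : Nat.Prime 7).coprime_iff_not_dvd.2 fun hd => h7 (hx ▸ hd.mul_left 8))
      · rcases he13 with rfl | rfl
        · exact Nat.coprime_one_right x
        · exact (Nat.coprime_comm).1 ((Fact.out : Nat.Prime 3).coprime_iff_not_dvd.2 fun hd => h3 (hx ▸ hd.mul_left 8))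
    have hx1 : x = 1 := Nat.eq_one_of_dvd_coprimes hcop dvd_rfl hx21
    exact (eq_of_le_of_card_ge hSX (by rw [hx, hx1, h.card_two])).ge
  rcases he13 with rfl | rfl
  · -- 45 Sylow subgroups
    obtain ⟨T, hTS, hT1, hne⟩ : ∃ T : Subgroup G, T ≤ (S : Subgroup G) ∧ T ≠ ⊥ ∧
        ¬ centralizer (T : Set G) ≤ (S : Subgroup G) := by
      by_contra hall
      push Not at hall
      have hd := dvd_card_sylow S hsq (d := 8) fun Q hQ => by
        have hbot : (S : Subgroup G) ⊓ (Q : Subgroup G) = ⊥ := by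
          by_contra hne
          refine hQ (Sylow.ext (eq_of_le_of_card_ge (fun z hz => hall _ inf_le_left hne ?_)
            (by rw [h.card_two S, h.card_two Q])))
          refine mem_centralizer_iff.2 fun w hw => ?_
          have hQsq : ∀ s ∈ (Q : Subgroup G), s * s = 1 := by
            obtain ⟨g, rfl⟩ := MulAction.exists_smul_eq G S Q
            intro s hs
            rw [Sylow.coe_subgroup_smul, Subgroup.mem_pointwise_smul_iff_inv_smul_mem] at hs
            have := hsq _ hs
            rw [← smul_mul', smul_eq_iff_eq_inv_smul] at this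
            simpa using this
          exact h.comm_two Q hQsq (Subgroup.mem_inf.1 hw).2 hz
        rw [hbot, Subgroup.card_bot, h.card_two]
      have : Nat.card (Sylow 2 G) = 45 := by omega
      rw [this] at hd
      norm_num at hd
    exact h.false_of_centralized S hsq hTS hT1 (hgen T hTS hT1 (by norm_num)) hne
  · -- 15 Sylow subgroups
    obtain ⟨Q, hQ, hQ4⟩ : ∃ Q : Sylow 2 G, Q ≠ S ∧
        Nat.card ((S : Subgroup G) ⊓ (Q : Subgroup G) : Subgroup G) = 4 := by
      by_contra hall
      push Not at hall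
      have hd := dvd_card_sylow S hsq (d := 4) fun Q hQ => by
        have hd := card_inf_dvd (S : Subgroup G) (Q : Subgroup G)
        rw [h.card_two] at hd ⊢
        have hle' := Nat.le_of_dvd (by norm_num) hd
        have h8 : Nat.card ((S : Subgroup G) ⊓ (Q : Subgroup G) : Subgroup G) ≠ 8 := fun e8 =>
          hQ (Sylow.ext (eq_of_le_of_card_ge (le_centralizer_of_card (e8.trans (h.card_two S).symm))
            (by rw [h.card_two S, h.card_two Q])).symm)
        have := hall Q hQ
        interval_cases hn : Nat.card ((S : Subgroup G) ⊓ (Q : Subgroup G) : Subgroup G) <;> omega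
      have : Nat.card (Sylow 2 G) = 15 := by omega
      rw [this] at hd
      norm_num at hd
    refine h.false_of_centralized S hsq inf_le_left (fun eb => by rw [eb, Subgroup.card_bot] at hQ4; omega)
      (hgen _ inf_le_left (fun eb => by rw [eb, Subgroup.card_bot] at hQ4; omega) fun _ => hQ4) fun hle => ?_
    refine hQ (Sylow.ext (eq_of_le_of_card_ge (fun z hz => hle ?_) (by rw [h.card_two S, h.card_two Q])))
    refine mem_centralizer_iff.2 fun w hw => ?_
    have hQsq : ∀ s ∈ (Q : Subgroup G), s * s = 1 := by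
      obtain ⟨g, rfl⟩ := MulAction.exists_smul_eq G S Q
      intro s hs
      rw [Sylow.coe_subgroup_smul, Subgroup.mem_pointwise_smul_iff_inv_smul_mem] at hs
      have := hsq _ hs
      rw [← smul_mul', smul_eq_iff_eq_inv_smul] at this
      simpa using this
    exact h.comm_two Q hQsq (Subgroup.mem_inf.1 hw).2 hz

end Hyp

end CfsgLib.AltSevenOrder
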