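import Cfsg.Agent.AltSevenOrder.Elementary
import Cfsg.Agent.SmallCent.Reduce
import Cfsg.Agent.Classical.LinearOrder

/-!
# The simple group of order 2520
-/

set_option autoImplicit false
set_option linter.style.haveILetI false
set_option linter.unusedSectionVars false

namespace CfsgLib.AltSevenOrder

open Subgroup MulAction
open scoped Classical

universe u

variable {G : Type u} [Group G] [Finite G] [IsSimpleGroup G]

namespace Hyp

variable (h : Hyp G) [Fact (Nat.Prime 2)] [Fact (Nat.Prime 3)]
include h

theorem not_cyclic : ¬ IsCyclic G := fun hc => by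
  haveI := hc
  exact h.na ⟨⟨fun a b => (IsCyclic.commGroup (α := G)).mul_comm a b⟩⟩

theorem exists_four : ∃ σ : G, orderOf σ = 4 := by
  by_contra hno
  obtain ⟨S⟩ : Nonempty (Sylow 2 G) := inferInstance
  refine h.false_of_elementary S fun s hs => ?_
  obtain ⟨j, hj, e⟩ := (Nat.dvd_prime_pow Nat.prime_two).1
    (((S : Subgroup G).orderOf_dvd_natCard hs).trans (by rw [h.card_two S]; norm_num) : orderOf s ∣ 2 ^ 3)
  have h1 := pow_orderOf_eq_one s
  interval_cases j
  · rw [e] at h1
    rw [show s = 1 by simpa using h1, one_mul]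
  · rw [e] at h1
    simpa [sq] using h1
  · exact absurd ⟨s, by rw [e]; norm_num⟩ hno
  · refine absurd ⟨s ^ 2, ?_⟩ hno
    rw [orderOf_pow, e]
    norm_num

theorem false_of_hyp : False := by
  obtain ⟨σ, hσ⟩ := h.exists_four
  set C := centralizer ({σ} : Set G) with hC
  have hσC : σ ∈ C := mem_centralizer_singleton_iff.2 rfl
  have hC8 : Nat.card C ∣ 2 ^ 3 := by
    have hd : Nat.card C ∣ 2520 := h.card ▸ Subgroup.card_subgroup_dvd_card C
    refine Nat.Coprime.dvd_of_dvd_mul_right (n := 315) (m := 2 ^ 3) ?_ (hd.trans (by norm_num))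
    refine Nat.coprime_of_dvd fun p hp hpC hp' => ?_
    haveI : Fact p.Prime := ⟨hp⟩
    have hp2 : p ≠ 2 := fun e => by subst e; norm_num at hp'
    obtain ⟨y, hy⟩ := exists_prime_orderOf_dvd_card' p hpC
    exact h.no_four hp2 ((Subgroup.orderOf_coe y).trans hy) hσ
      (show Commute σ (y : G) from (mem_centralizer_singleton_iff.1 y.2).symm)
  obtain ⟨j, hj, hjc⟩ := (Nat.dvd_prime_pow Nat.prime_two).1 hC8
  by_cases hj2 : j ≤ 2
  · -- a centraliser of order at most four
    have hle : Nat.card C ≤ 4 := by
      rw [hjc]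
      exact Nat.pow_le_pow_right (by norm_num) hj2
    rcases CfsgLib.SmallCent.classify_small h.not_cyclic σ hle with he | he | he | he <;>
      obtain ⟨e⟩ := he
    · have := Nat.card_congr e.toEquiv
      rw [h.card, nat_card_alternatingGroup, Nat.card_eq_fintype_card, Fintype.card_fin] at this
      norm_num [Nat.factorial] at this
    · have := Nat.card_congr e.toEquiv
      rw [h.card, nat_card_alternatingGroup, Nat.card_eq_fintype_card, Fintype.card_fin] at this
      norm_num [Nat.factorial] at this
    · exact h.noIso ⟨e⟩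
    · have hc := Nat.card_congr e.toEquiv
      haveI : Fact (Nat.Prime 7) := ⟨by norm_num⟩
      have h1 := CfsgLib.Linear.card_PSL_mul (F := ZMod 7) (ZMod.card 7) 2 (by norm_num)
      rw [Fin.prod_univ_two, ← hc, h.card] at h1
      norm_num [Fin.sum_univ_two] at h1
  · have hC' : Nat.card C = 8 := by
      rw [hjc, show j = 3 by omega]
      norm_num
    obtain ⟨S, hS⟩ := (IsPGroup.of_card (p := 2) (n := 3) (hC'.trans (by norm_num))).exists_le_sylow
    have hSC : C = (S : Subgroup G) := eq_of_le_of_card_ge hS (by rw [hC', h.card_two])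
    have hcomm : ∀ a ∈ (S : Subgroup G), ∀ b ∈ (S : Subgroup G), a * b = b * a := by
      set C' : Subgroup C := (zpowers σ).subgroupOf C
      have hidx : C'.index = 2 := by
        have := C'.card_mul_index
        rw [Nat.card_congr (subgroupOfEquivOfLe (zpowers_le.2 hσC)).toEquiv, Nat.card_zpowers, hσ,
          hC'] at this
        omega
      have hz : ∀ c ∈ C, ∀ i : ℤ, c * σ ^ i = σ ^ i * c := fun c hc i =>
        (show Commute c σ from mem_centralizer_singleton_iff.1 hc).zpow_right i
      intro a ha b hb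
      rw [← hSC] at ha hb
      by_cases haC : (⟨a, ha⟩ : C) ∈ C'
      · obtain ⟨i, hi⟩ := Subgroup.mem_zpowers_iff.1 (mem_subgroupOf.1 haC)
        replace hi : σ ^ i = a := hi
        rw [← hi]
        exact (hz b hb i).symm
      by_cases hbC : (⟨b, hb⟩ : C) ∈ C'
      · obtain ⟨i, hi⟩ := Subgroup.mem_zpowers_iff.1 (mem_subgroupOf.1 hbC)
        replace hi : σ ^ i = b := hi
        rw [← hi]
        exact hz a ha i
      have hm : (⟨a, ha⟩ : C) * ⟨b, hb⟩ ∈ C' := (mul_mem_iff_of_index_two hidx).2 (iff_of_false haC hbC)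
      obtain ⟨i, hi⟩ := Subgroup.mem_zpowers_iff.1 (mem_subgroupOf.1 hm)
      replace hi : σ ^ i = a * b := hi
      calc a * b = a⁻¹ * (a * (a * b)) := by group
        _ = a⁻¹ * ((a * b) * a) := by rw [← hi, hz a ha i]
        _ = b * a := by group
    have hnc := CfsgLib.SmallCent.sylow_not_cyclic h.not_cyclic (by rw [h.card]; decide) S
    have hsq : ∀ s ∈ (S : Subgroup G), s * s = 1 ∨ s * s = σ ^ 2 := by
      intro s hs
      have hs8 : orderOf s ≠ 8 := fun e8 => by
        refine hnc (isCyclic_of_orderOf_eq_card (⟨s, hs⟩ : (S : Subgroup G)) ?_)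
        rw [← Subgroup.orderOf_coe, h.card_two]
        exact e8
      have hs4 : s ^ 4 = 1 := by
        obtain ⟨k, hk, hke⟩ := (Nat.dvd_prime_pow Nat.prime_two).1
          (((S : Subgroup G).orderOf_dvd_natCard hs).trans (by rw [h.card_two S]; norm_num) : orderOf s ∣ 2 ^ 3)
        rw [← orderOf_dvd_iff_pow_eq_one, hke]
        interval_cases k
        · norm_num
        · norm_num
        · norm_num
        · exact absurd (by rw [hke]; norm_num) hs8
      set C' : Subgroup C := (zpowers σ).subgroupOf C
      have hidx : C'.index = 2 := by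
        have := C'.card_mul_index
        rw [Nat.card_congr (subgroupOfEquivOfLe (zpowers_le.2 hσC)).toEquiv, Nat.card_zpowers, hσ,
          hC'] at this
        omega
      have hm : s * s ∈ zpowers σ :=
        mem_subgroupOf.1 (mul_self_mem_of_index_two hidx (⟨s, hSC.ge hs⟩ : C))
      rw [mem_zpowers_iff_mem_range_orderOf, hσ, Finset.mem_image] at hm
      obtain ⟨i, hi, he⟩ := hm
      rw [Finset.mem_range] at hi
      have h2 : σ ^ (i * 2) = σ ^ 0 := by
        rw [pow_mul, he, pow_zero, ← pow_two, ← pow_mul]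
        exact hs4
      rw [pow_eq_pow_iff_modEq, hσ, Nat.ModEq] at h2
      rw [← he]
      rcases (by omega : i = 0 ∨ i = 2) with rfl | rfl
      · exact Or.inl (pow_zero σ)
      · exact Or.inr rfl
    have hσ2 : σ ^ 2 ≠ 1 := fun e => by
      have := orderOf_dvd_of_pow_eq_one e
      rw [hσ] at this
      norm_num at this
    refine hσ2 (h.eq_one_of_central S hcomm (pow_mem (hSC.le hσC) 2) fun n hn => ?_)
    have hnσ : n * σ * n⁻¹ ∈ (S : Subgroup G) := (mem_normalizer_iff.1 hn σ).1 (hSC.le hσC)
    rcases hsq _ hnσ with e | e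
    · exact absurd (by rw [← pow_two, conj_pow] at e; exact conj_eq_one_iff.1 e) hσ2
    · rw [← pow_two, conj_pow] at e
      exact mul_inv_eq_iff_eq_mul.1 e

end Hyp

end CfsgLib.AltSevenOrder
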