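import Cfsg.Agent.SmallSimple.Basic

/-!
# A simple group of order 2520 with a subgroup of small index
-/

set_option autoImplicit false

namespace CfsgLib.AltSevenOrder

open Subgroup

variable {G : Type*} [Group G] [Finite G] [IsSimpleGroup G]

theorem not_comm (hn : Nat.card G = 2520) : ¬ IsMulCommutative G := by
  intro h
  haveI := h
  letI : CommGroup G := { ‹Group G› with mul_comm := h.is_comm.comm }
  have hp := IsSimpleGroup.prime_card (α := G)
  rw [hn] at hp
  norm_num at hp

/-- Seven points. -/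
theorem iso_of_hom (hn : Nat.card G = 2520) {X : Type*} [Fintype X] [DecidableEq X]
    (hX : Nat.card X = 7) (f : G →* Equiv.Perm X) (hf : Function.Injective f) :
    Nonempty (G ≃* alternatingGroup (Fin 7)) := by
  let e : X ≃ Fin 7 := Finite.equivFinOfCardEq hX
  let f' : G →* Equiv.Perm (Fin 7) := e.permCongrHom.toMonoidHom.comp f
  have hev : ∀ g, f' g ∈ alternatingGroup (Fin 7) := fun g =>
    Equiv.Perm.mem_alternatingGroup.2 (CfsgLib.SmallSimple.sign_eq_one (not_comm hn) f' g)
  refine ⟨MulEquiv.ofBijective (f'.codRestrict _ hev) ((Nat.bijective_iff_injective_and_card _).2 ⟨?_, ?_⟩)⟩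
  · intro a b hab
    exact hf (e.permCongrHom.injective (congrArg Subtype.val hab))
  · haveI : Nontrivial (Fin 7) := inferInstance
    rw [hn, nat_card_alternatingGroup, Nat.card_eq_fintype_card, Fintype.card_fin]
    rfl

/-- A subgroup of index at most eight. -/
theorem iso_of_index_le (hn : Nat.card G = 2520) {H : Subgroup G} (hH : H ≠ ⊤) (hi : H.index ≤ 8) :
    Nonempty (G ≃* alternatingGroup (Fin 7)) := by
  classical
  haveI := Fintype.ofFinite (G ⧸ H)
  have hd := CfsgLib.SmallSimple.card_dvd_factorial H hH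
  rw [hn] at hd
  have hfac := Nat.le_of_dvd (Nat.factorial_pos _) hd
  have h7 : 7 ≤ H.index := by
    by_contra h
    have := Nat.factorial_le (show H.index ≤ 6 by omega)
    norm_num [Nat.factorial] at this
    omega
  rcases (by omega : H.index = 7 ∨ H.index = 8) with h | h
  · exact iso_of_hom hn (by rw [← Subgroup.index_eq_card, h]) _
      (CfsgLib.SmallSimple.cosetHom_injective H hH)
  obtain ⟨f, hf⟩ := CfsgLib.SmallSimple.exists_hom_alternating (not_comm hn) H hH
  let A := alternatingGroup (Fin H.index)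
  haveI : IsSimpleGroup A := alternatingGroup.isSimpleGroup (by rw [Nat.card_eq_fintype_card, Fintype.card_fin]; omega)
  set K : Subgroup A := f.range
  have hA : Nat.card A = 20160 := by
    haveI : Nontrivial (Fin H.index) := Fin.nontrivial_iff_two_le.2 (by omega)
    rw [nat_card_alternatingGroup, Nat.card_eq_fintype_card, Fintype.card_fin, h]
    rfl
  have hK : Nat.card K = 2520 := (Nat.card_congr (MonoidHom.ofInjective hf).toEquiv).symm.trans hn
  have hKi : K.index = 8 := by
    have := K.card_mul_index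
    rw [hK, hA] at this
    omega
  have hKtop : K ≠ ⊤ := fun e => by rw [e, Subgroup.index_top] at hKi; omega
  haveI := Fintype.ofFinite (A ⧸ K)
  let ψ : G →* Equiv.Perm (A ⧸ K) := (MulAction.toPermHom A (A ⧸ K)).comp f
  have hψ : Function.Injective ψ := (CfsgLib.SmallSimple.cosetHom_injective K hKtop).comp hf
  let q₀ : A ⧸ K := ((1 : A) : A ⧸ K)
  have hfix : ∀ g, ψ g q₀ = q₀ := by
    intro g
    show f g • ((1 : A) : A ⧸ K) = ((1 : A) : A ⧸ K)
    rw [MulAction.Quotient.smul_coe, QuotientGroup.eq, smul_eq_mul, mul_one, mul_one]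
    exact K.inv_mem ⟨g, rfl⟩
  have hne : ∀ g x, ψ g x ≠ q₀ ↔ x ≠ q₀ := fun g x =>
    not_congr ⟨fun e => (ψ g).injective (e.trans (hfix g).symm), fun e => e ▸ hfix g⟩
  let φ : G →* Equiv.Perm {x : A ⧸ K // x ≠ q₀} :=
    MonoidHom.mk' (fun g => (ψ g).subtypePerm fun x => hne g x) fun a b => by
      ext x
      show ψ (a * b) x.1 = ψ a (ψ b x.1)
      rw [map_mul]
      rfl
  refine iso_of_hom hn ?_ φ fun a b hab => hψ (Equiv.ext fun x => ?_)
  · rw [Nat.card_eq_fintype_card, Fintype.card_subtype_compl, Fintype.card_subtype_eq,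
      ← Nat.card_eq_fintype_card, ← Subgroup.index_eq_card, hKi]
  · by_cases hx : x = q₀
    · rw [hx, hfix, hfix]
    · exact congrArg Subtype.val (Equiv.congr_fun hab ⟨x, hx⟩)

end CfsgLib.AltSevenOrder
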