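import Cfsg.Agent.AltSevenOrder.Tools

/-!
# Elements of order three and five with large centralisers
-/

set_option autoImplicit false
set_option linter.style.haveILetI false
set_option linter.unusedSectionVars false

namespace CfsgLib.AltSevenOrder

open Subgroup MulAction

universe u

variable {G : Type u} [Group G] [Finite G] [IsSimpleGroup G]

omit [IsSimpleGroup G] in
/-- A normal odd complement inside a subgroup. -/
theorem exists_complement {L : Subgroup G} (P : Sylow 2 L)
    (hP : normalizer ((P : Subgroup L) : Set L) ≤ centralizer ((P : Subgroup L) : Set L))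
    {a m : ℕ} (ha : Nat.card (P : Subgroup L) = a) (hL : Nat.card L = a * m) :
    ∃ M : Subgroup G, M ≤ L ∧ Nat.card M = m ∧ L ≤ normalizer (M : Set G) ∧
      ∀ g ∈ L, Odd (orderOf g) → g ∈ M := by
  haveI : Fact (Nat.Prime 2) := ⟨Nat.prime_two⟩
  set M₀ := (MonoidHom.transferSylow P hP).ker with hM₀
  have hmul := (MonoidHom.ker_transferSylow_isComplement' P hP).card_mul_card
  rw [← hM₀, ha, hL, mul_comm] at hmul
  have ha0 : 0 < a := ha ▸ Nat.card_pos
  have hM : Nat.card M₀ = m := Nat.eq_of_mul_eq_mul_left ha0 hmul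
  refine ⟨M₀.map L.subtype, map_subtype_le _, ?_, ?_, ?_⟩
  · rw [Subgroup.card_map_of_injective L.subtype_injective, hM]
  · have h1 := M₀.le_normalizer_map L.subtype
    rw [normalizer_eq_top M₀, ← MonoidHom.range_eq_map, Subgroup.range_subtype] at h1
    exact h1
  · intro g hg ho
    refine ⟨⟨g, hg⟩, MonoidHom.mem_ker.2 ?_, rfl⟩
    set z := MonoidHom.transferSylow P hP ⟨g, hg⟩
    obtain ⟨j, hj⟩ := P.isPGroup'.exists_card_eq
    have h1 : orderOf z ∣ orderOf g :=
      (orderOf_map_dvd _ _).trans (by rw [← Subgroup.orderOf_coe])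
    have h2 : orderOf z ∣ 2 ^ j := hj ▸ orderOf_dvd_natCard z
    exact orderOf_eq_one_iff.1 (Nat.eq_one_of_dvd_coprimes
      (Nat.Coprime.pow_right j (Nat.coprime_two_right.2 ho)) h1 h2)

omit [IsSimpleGroup G] in
/-- An element of order four generating a Sylow subgroup of a subgroup. -/
theorem exists_complement_four {L : Subgroup G} {σ : G} (hσ : orderOf σ = 4) (hσL : σ ∈ L) {m : ℕ}
    (hm : Odd m) (hL : Nat.card L = 4 * m) :
    ∃ M : Subgroup G, M ≤ L ∧ Nat.card M = m ∧ L ≤ normalizer (M : Set G) ∧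
      ∀ g ∈ L, Odd (orderOf g) → g ∈ M := by
  haveI : Fact (Nat.Prime 2) := ⟨Nat.prime_two⟩
  have hso : orderOf (⟨σ, hσL⟩ : L) = 4 := by rw [← Subgroup.orderOf_coe]; exact hσ
  obtain ⟨P, hP⟩ := (IsPGroup.of_card (p := 2) (n := 2) (G := zpowers (⟨σ, hσL⟩ : L))
    (by rw [Nat.card_zpowers, hso]; norm_num)).exists_le_sylow
  have hPc : Nat.card (P : Subgroup L) = 4 := by
    rw [CfsgLib.SmallSimple.card_sylow_eq P (k := 2) (m := m) (by rw [hL]; norm_num)
      (fun h => (Nat.not_even_iff_odd.2 hm) (even_iff_two_dvd.2 h))]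
    norm_num
  have hcyc : IsCyclic (P : Subgroup L) := by
    rw [← eq_of_le_of_card_ge hP (by rw [hPc, Nat.card_zpowers, hso])]
    infer_instance
  exact exists_complement P (IsCyclic.normalizer_le_centralizer (P := P)
    ((Nat.minFac_eq_two_iff _).2 (hL ▸ Dvd.intro (2 * m) (by ring))) hcyc) hPc hL

omit [IsSimpleGroup G] in
/-- A unique Sylow subgroup of prime order is normalised by the normaliser. -/
theorem normalizes_of_unique {M R : Subgroup G} {r : ℕ} (hR : Nat.card R = r) (hRM : R ≤ M)
    (huniq : ∀ R' : Subgroup G, R' ≤ M → Nat.card R' = r → R' = R) :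
    normalizer (M : Set G) ≤ normalizer (R : Set G) := by
  intro n hn
  have e : R.map (MulAut.conj n).toMonoidHom = R := by
    refine huniq _ ?_ ((Subgroup.card_map_of_injective (MulAut.conj n).injective).trans hR)
    rintro _ ⟨x, hx, rfl⟩
    exact (mem_normalizer_iff.1 hn x).1 (hRM hx)
  refine mem_normalizer_iff.2 fun x => ⟨fun hx => e ▸ ⟨x, hx, rfl⟩, fun hx => ?_⟩
  rw [← e] at hx
  obtain ⟨z, hz, hze⟩ := hx
  rwa [← (MulAut.conj n).injective hze]

omit [IsSimpleGroup G] in
/-- A subgroup of prime order whose number of conjugates is forced to be one. -/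
theorem eq_of_card_sylow_one {M : Subgroup G} {p : ℕ} [Fact p.Prime] {m : ℕ} (hM : Nat.card M = p * m)
    (hm : ¬ p ∣ m) (hone : ∀ k : ℕ, k ∣ m → k % p = 1 → k = 1) {R R' : Subgroup G} (hR : R ≤ M)
    (hR' : R' ≤ M) (hc : Nat.card R = p) (hc' : Nat.card R' = p) : R' = R := by
  obtain ⟨P₀⟩ : Nonempty (Sylow p M) := inferInstance
  have hcs : ∀ P : Sylow p M, Nat.card (P : Subgroup M) = p := fun P => by
    rw [CfsgLib.SmallSimple.card_sylow_eq P (k := 1) (m := m) (by rw [pow_one]; exact hM) hm, pow_one]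
  have hidx := P₀.card_dvd_index
  have h2 := (P₀ : Subgroup M).card_mul_index
  rw [hcs, hM] at h2
  rw [Nat.eq_of_mul_eq_mul_left (Fact.out : p.Prime).pos h2] at hidx
  have h1 := hone _ hidx (Eq.trans (card_sylow_modEq_one p M) (Nat.mod_eq_of_lt (Fact.out : p.Prime).one_lt))
  haveI : Subsingleton (Sylow p M) := (Nat.card_eq_one_iff_unique.1 h1).1
  have key : ∀ R : Subgroup G, R ≤ M → Nat.card R = p → R.subgroupOf M = (P₀ : Subgroup M) := by
    intro R hR hc
    have hRc : Nat.card (R.subgroupOf M) = p := by rw [Nat.card_congr (subgroupOfEquivOfLe hR).toEquiv, hc]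
    obtain ⟨P, hP⟩ := (IsPGroup.of_card (n := 1) (hRc.trans (pow_one p).symm)).exists_le_sylow
    rw [Subsingleton.elim P₀ P]
    exact eq_of_le_of_card_ge hP (by rw [hcs, hRc])
  have e := (key R' hR' hc').trans (key R hR hc).symm
  rw [subgroupOf_inj, inf_eq_left.2 hR', inf_eq_left.2 hR] at e
  exact e

namespace Hyp

variable (h : Hyp G) [Fact (Nat.Prime 3)]
include h

omit h in
theorem exists_sylow_mem {y : G} (hy : orderOf y = 3) : ∃ P : Sylow 3 G, y ∈ (P : Subgroup G) := by
  obtain ⟨P, hP⟩ := (IsPGroup.of_card (p := 3) (n := 1) (G := zpowers y)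
    (by rw [Nat.card_zpowers, hy, pow_one])).exists_le_sylow
  exact ⟨P, hP (mem_zpowers y)⟩

theorem sylow_le_centralizer (P : Sylow 3 G) {y : G} (hy : y ∈ (P : Subgroup G)) :
    (P : Subgroup G) ≤ centralizer ({y} : Set G) :=
  fun _ hz => mem_centralizer_singleton_iff.2 (h.comm_three P hz hy)

theorem normalizer_three_ne (P : Sylow 3 G) : (P : Subgroup G) ≠ ⊥ := fun e => by
  have := h.card_three P
  rw [e, Subgroup.card_bot] at this
  omega

theorem nine_dvd_centralizer {y : G} (hy : orderOf y = 3) :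
    9 ∣ Nat.card (centralizer ({y} : Set G)) := by
  obtain ⟨P, hP⟩ := exists_sylow_mem hy
  exact h.card_three P ▸ card_dvd_of_le (h.sylow_le_centralizer P hP)

theorem ne_one_three {y : G} (hy : orderOf y = 3) : y ≠ 1 := fun e => by
  rw [e, orderOf_one] at hy; omega

/-- An involution centralising an element of order three in the normaliser of a Sylow subgroup. -/
theorem normalizes_of_involution (P : Sylow 3 G)
    (hN : Nat.card (normalizer ((P : Subgroup G) : Set G)) = 36) {y t v : G}
    (hy : orderOf y = 3) (hyP : y ∈ (P : Subgroup G)) (ht : orderOf t = 2)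
    (htN : t ∈ normalizer ((P : Subgroup G) : Set G)) (hty : t * y = y * t)
    (hv : v ∈ normalizer ((P : Subgroup G) : Set G)) : v * y * v⁻¹ ∈ zpowers y := by
  set N := normalizer ((P : Subgroup G) : Set G) with hNdef
  set C := N ⊓ centralizer ((P : Subgroup G) : Set G) with hCdef
  have hPC : (P : Subgroup G) ≤ C := le_inf le_normalizer fun a ha =>
    mem_centralizer_iff.2 fun b hb => h.comm_three P hb ha
  have h9 : 9 ∣ Nat.card C := h.card_three P ▸ card_dvd_of_le hPC
  have h36 : Nat.card C ∣ 36 := hN ▸ card_dvd_of_le inf_le_left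
  have hne : Nat.card C ≠ 36 := by
    intro e
    have hCN : C = N := eq_of_le_of_card_ge inf_le_left (by rw [e, hN])
    refine h.ne_one_three hy (h.eq_one_of_central P (fun a ha b hb => h.comm_three P ha hb) hyP fun n hn => ?_)
    have hn' : n ∈ C := hCN.symm ▸ hn
    exact ((mem_centralizer_iff.1 (Subgroup.mem_inf.1 hn').2) y hyP).symm
  set w := v * y * v⁻¹ with hw
  have hwP : w ∈ (P : Subgroup G) := (mem_normalizer_iff.1 hv y).1 hyP
  by_cases htC : t ∈ C
  · -- the centraliser has index two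
    have h2 : 2 ∣ Nat.card C := ht ▸ C.orderOf_dvd_natCard htC
    have hC18 : Nat.card C = 18 := by
      obtain ⟨c, hc⟩ := h9
      rw [hc] at h36 h2 hne ⊢
      have : c ∣ 4 := Nat.dvd_of_mul_dvd_mul_left (by norm_num : 0 < 9) h36
      have hc4 := Nat.le_of_dvd (by norm_num) this
      interval_cases c <;> omega
    set C' := C.subgroupOf N
    have hidx : C'.index = 2 := by
      have := C'.card_mul_index
      rw [Nat.card_congr (subgroupOfEquivOfLe inf_le_left).toEquiv, hC18, hN] at this
      omega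
    have hvv : v * v ∈ C := mem_subgroupOf.1 (mul_self_mem_of_index_two hidx ⟨v, hv⟩)
    have hC : ∀ c ∈ C, ∀ z ∈ (P : Subgroup G), c * z = z * c := fun c hc z hz =>
      ((mem_centralizer_iff.1 (Subgroup.mem_inf.1 hc).2) z hz).symm
    set z := y * w with hz
    have hzP : z ∈ (P : Subgroup G) := mul_mem hyP hwP
    have hvz : v * z = z * v := by
      have e : v * v * y = y * (v * v) := hC _ hvv y hyP
      have e' : v * w * v⁻¹ = y := by
        rw [hw]
        calc v * (v * y * v⁻¹) * v⁻¹ = (v * v * y) * v⁻¹ * v⁻¹ := by group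
          _ = y := by rw [e]; group
      have e2 : v * z * v⁻¹ = z := by
        rw [hz]
        calc v * (y * w) * v⁻¹ = (v * y * v⁻¹) * (v * w * v⁻¹) := by group
          _ = y * w := by rw [e', ← hw, h.comm_three P hwP hyP]
      exact mul_inv_eq_iff_eq_mul.1 e2
    by_cases hvC : v ∈ C
    · have hw' : w = y := by rw [hw, hC v hvC y hyP]; group
      rw [hw']
      exact mem_zpowers y
    have hz1 : z = 1 := by
      refine h.eq_one_of_central P (fun a ha b hb => h.comm_three P ha hb) hzP fun n hn => ?_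
      by_cases hnC : n ∈ C
      · exact hC n hnC z hzP
      · have hm : (⟨n, hn⟩ : N) * ⟨v, hv⟩ ∈ C' := (mul_mem_iff_of_index_two hidx).2 (iff_of_false hnC hvC)
        have h1 := hC _ (mem_subgroupOf.1 hm) z hzP
        rw [Subgroup.coe_mul] at h1
        have : n * z * v = z * n * v := by
          calc n * z * v = n * (v * z) := by rw [hvz]; group
            _ = n * v * z := by group
            _ = z * (n * v) := h1
            _ = z * n * v := by group
        exact mul_right_cancel this
    rw [show w = y⁻¹ from eq_inv_of_mul_eq_one_right hz1]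
    exact inv_mem (mem_zpowers y)
  · -- the fixed points of `t`
    have hF : (P : Subgroup G) ⊓ centralizer ({t} : Set G) = zpowers y := by
      have hle : zpowers y ≤ (P : Subgroup G) ⊓ centralizer ({t} : Set G) := zpowers_le.2
        (Subgroup.mem_inf.2 ⟨hyP, mem_centralizer_singleton_iff.2 hty.symm⟩)
      refine (eq_of_le_of_card_ge hle ?_).symm
      rw [Nat.card_zpowers, hy]
      have hd := card_inf_dvd (P : Subgroup G) (centralizer ({t} : Set G))
      have hne9 : Nat.card ((P : Subgroup G) ⊓ centralizer ({t} : Set G) : Subgroup G) ≠ 9 := fun e =>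
        htC (Subgroup.mem_inf.2 ⟨htN, mem_centralizer_iff.2 fun z hz =>
          mem_centralizer_singleton_iff.1
            (le_centralizer_of_card (e.trans (h.card_three P).symm) hz)⟩)
      rw [h.card_three] at hd
      have hmem := Nat.mem_divisors.2 ⟨hd, (by norm_num : (9 : ℕ) ≠ 0)⟩
      rw [show Nat.divisors 9 = {1, 3, 9} by decide] at hmem
      simp only [Finset.mem_insert, Finset.mem_singleton] at hmem
      omega
    -- commutators of the normaliser centralise the Sylow subgroup
    set C' := C.subgroupOf N with hC'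
    haveI : C'.Normal := ⟨fun c hc a => by
      rw [hC', mem_subgroupOf] at hc ⊢
      refine Subgroup.mem_inf.2 ⟨(a * c * a⁻¹).2, mem_centralizer_iff.2 fun z hz => ?_⟩
      have hz' : (a : G)⁻¹ * z * a ∈ (P : Subgroup G) := (mem_normalizer_iff''.1 a.2 z).1 hz
      have e := (mem_centralizer_iff.1 (Subgroup.mem_inf.1 hc).2) _ hz'
      push_cast
      calc z * ((a : G) * c * (a : G)⁻¹) = (a : G) * (((a : G)⁻¹ * z * a) * c) * (a : G)⁻¹ := by group
        _ = (a : G) * (c * ((a : G)⁻¹ * z * a)) * (a : G)⁻¹ := by rw [e]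
        _ = (a : G) * c * (a : G)⁻¹ * z := by group⟩
    have hQ : IsMulCommutative (N ⧸ C') := by
      have hq := C'.card_eq_card_quotient_mul_card_subgroup
      rw [hN, Nat.card_congr (subgroupOfEquivOfLe inf_le_left).toEquiv] at hq
      obtain ⟨c, hc⟩ := h9
      rw [hc] at hq h36
      have hc4 : c ∣ 4 := Nat.dvd_of_mul_dvd_mul_left (by norm_num : 0 < 9) h36
      haveI : Fact (Nat.Prime 2) := ⟨Nat.prime_two⟩
      have hc4' := Nat.le_of_dvd (by norm_num) hc4
      interval_cases c
      · omega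
      · exact IsPGroup.isMulCommutative_of_card_eq_prime_sq (p := 2) (by omega)
      · haveI : IsCyclic (N ⧸ C') := isCyclic_of_prime_card (p := 2) (by omega)
        exact ⟨⟨(IsCyclic.commGroup (α := N ⧸ C')).mul_comm⟩⟩
      · omega
      · exact absurd hc hne
    have hcm : (⟨t, htN⟩ : N) * ⟨v, hv⟩ * (⟨t, htN⟩ : N)⁻¹ * (⟨v, hv⟩ : N)⁻¹ ∈ C' := by
      rw [← QuotientGroup.eq_one_iff, QuotientGroup.mk_mul, QuotientGroup.mk_mul, QuotientGroup.mk_mul,
        hQ.is_comm.comm ((⟨t, htN⟩ : N) : N ⧸ C'), QuotientGroup.mk_inv, QuotientGroup.mk_inv]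
      group
    have hc' := (mem_centralizer_iff.1 (Subgroup.mem_inf.1 (mem_subgroupOf.1 hcm)).2) w hwP
    push_cast at hc'
    have htw : t * w * t⁻¹ = w := by
      rw [hw] at hc' ⊢
      calc t * (v * y * v⁻¹) * t⁻¹
          = (t * v * t⁻¹ * v⁻¹) * v * (t * y * t⁻¹) * v⁻¹ * (t * v * t⁻¹ * v⁻¹)⁻¹ := by group
        _ = (t * v * t⁻¹ * v⁻¹) * (v * y * v⁻¹) * (t * v * t⁻¹ * v⁻¹)⁻¹ := by rw [hty]; group
        _ = v * y * v⁻¹ := by rw [← hc']; group
    exact hF.le (Subgroup.mem_inf.2 ⟨hwP, mem_centralizer_singleton_iff.2 (mul_inv_eq_iff_eq_mul.1 htw).symm⟩)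

end Hyp

end CfsgLib.AltSevenOrder
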