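import Cfsg.Agent.AltSevenOrder.Perm
import Cfsg.Agent.SmallSimple.SixThousand.Tools
import Cfsg.Agent.SmallSimple.SixThousand.HandB

/-!
# Local facts in a simple group of order 2520 without a subgroup of index at most eight
-/

set_option autoImplicit false
set_option linter.style.haveILetI false
set_option linter.unusedSectionVars false

namespace CfsgLib.AltSevenOrder

open Subgroup MulAction CfsgLib.SylowCheck

universe u

variable {G : Type u} [Group G] [Finite G] [IsSimpleGroup G]

/-- The hypothetical configuration. -/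
structure Hyp (G : Type u) [Group G] : Prop where
  card : Nat.card G = 2520
  noIso : ¬ Nonempty (G ≃* alternatingGroup (Fin 7))

namespace Hyp

variable (h : Hyp G)
include h

theorem na : ¬ IsMulCommutative G := not_comm h.card

theorem index_gt {H : Subgroup G} (hH : H ≠ ⊤) : 8 < H.index := by
  by_contra hle
  exact h.noIso (iso_of_index_le h.card hH (Nat.le_of_not_lt hle))

theorem card_le {H : Subgroup G} (hH : H ≠ ⊤) : Nat.card H ≤ 280 := by
  have h1 := h.index_gt hH
  have h2 := H.card_mul_index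
  rw [h.card] at h2
  nlinarith

theorem normalizer_ne_top {D : Subgroup G} (h1 : D ≠ ⊥) (h2 : Nat.card D < 2520) :
    normalizer (D : Set G) ≠ ⊤ := by
  intro e
  haveI := normalizer_eq_top_iff.1 e
  rcases IsSimpleGroup.eq_bot_or_eq_top_of_normal D inferInstance with h' | h'
  · exact h1 h'
  · rw [h', Subgroup.card_top, h.card] at h2
    omega

theorem card_normalizer_zpowers {x : G} (hx : x ≠ 1) :
    Nat.card (normalizer ((zpowers x : Subgroup G) : Set G)) ≤ 280 :=
  h.card_le (h.normalizer_ne_top (by simpa using hx) (by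
    rw [Nat.card_zpowers]
    rcases (Nat.le_of_dvd (by rw [h.card]; norm_num) (orderOf_dvd_natCard x)).lt_or_eq with hl | he
    · exact h.card ▸ hl
    · exfalso
      haveI : IsCyclic G := isCyclic_of_orderOf_eq_card x he
      exact h.na ⟨⟨fun a b => (IsCyclic.commGroup (α := G)).mul_comm a b⟩⟩))

theorem card_centralizer_le {x : G} (hx : x ≠ 1) : Nat.card (centralizer ({x} : Set G)) ≤ 280 :=
  (Subgroup.card_le_of_le (CfsgLib.SixThousand.centralizer_le x)).trans (h.card_normalizer_zpowers hx)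

omit h in
/-- The fixed points of a normalising element of prime order. -/
theorem fixed_card {q : ℕ} [Fact q.Prime] {y : G} (hy : y ^ q = 1) {D : Subgroup G}
    (hyD : y ∈ normalizer (D : Set G)) :
    Nat.card (D ⊓ centralizer ({y} : Set G) : Subgroup G) % q = Nat.card D % q := by
  letI : MulAction (zpowers y) D :=
    { smul := fun a d => ⟨(a : G) * d * (a : G)⁻¹,
        (mem_normalizer_iff.1 (zpowers_le.2 hyD a.2) d).1 d.2⟩
      one_smul := fun d => Subtype.ext (show (1 : G) * d * (1 : G)⁻¹ = d by simp)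
      mul_smul := fun a b d => Subtype.ext (show ((a : G) * b) * d * ((a : G) * b)⁻¹ =
        a * ((b : G) * d * (b : G)⁻¹) * (a : G)⁻¹ by group) }
  have hv : (⟨y, mem_zpowers y⟩ : zpowers y) ^ q = 1 := Subtype.ext (by simpa using hy)
  rw [← CfsgLib.FixedPoints.card_fixed_modEq hv D]
  congr 1
  refine Nat.card_congr
    { toFun := fun d => ⟨⟨d.1, (Subgroup.mem_inf.1 d.2).1⟩, Subtype.ext ?_⟩
      invFun := fun d => ⟨d.1.1, Subgroup.mem_inf.2 ⟨d.1.2, mem_centralizer_singleton_iff.2 ?_⟩⟩
      left_inv := fun _ => rfl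
      right_inv := fun _ => rfl }
  · show y * d.1 * y⁻¹ = d.1
    rw [mul_inv_eq_iff_eq_mul]
    exact (mem_centralizer_singleton_iff.1 (Subgroup.mem_inf.1 d.2).2).symm
  · have h1 : y * (d.1.1 : G) * y⁻¹ = d.1.1 := congrArg Subtype.val d.2
    exact (mul_inv_eq_iff_eq_mul.1 h1).symm

omit h in
/-- The number of fixed points is a divisor. -/
theorem card_inf_dvd (D K : Subgroup G) : Nat.card (D ⊓ K : Subgroup G) ∣ Nat.card D :=
  card_dvd_of_le inf_le_left

omit h in
theorem le_centralizer_of_card {D K : Subgroup G} (hc : Nat.card (D ⊓ K : Subgroup G) = Nat.card D) :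
    D ≤ K :=
  inf_eq_left.1 (eq_of_le_of_card_ge inf_le_left hc.ge)

/-- Elements of order five. -/
theorem five {y : G} (hy : orderOf y = 5) :
    ¬ 8 ∣ Nat.card (centralizer ({y} : Set G)) ∧ ¬ 9 ∣ Nat.card (centralizer ({y} : Set G)) ∧
    (4 ∣ Nat.card (centralizer ({y} : Set G)) → Nat.card (centralizer ({y} : Set G)) = 60 ∧
      Nat.card (normalizer ((zpowers y : Subgroup G) : Set G)) = 120) ∧
    (3 ∣ Nat.card (centralizer ({y} : Set G)) →
      Nat.card (normalizer ((zpowers y : Subgroup G) : Set G)) = 120) := by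
  haveI : Fact (Nat.Prime 5) := ⟨by norm_num⟩
  obtain ⟨o, ho, hr, hp⟩ := exists_real h.na (Nat.divisors 2520).toList
    (fun k hk => by rw [Finset.mem_toList, Nat.mem_divisors]; exact ⟨h.card ▸ hk, by norm_num⟩)
    (p := 5) (by norm_num) (by rw [h.card]; norm_num) (by rw [h.card]; norm_num)
  rw [h.card] at ho
  obtain ⟨p, k, c⟩ := o
  have hp' : p = 5 := hp
  subst hp'
  have hopts : ∀ o ∈ opts (Nat.divisors 2520).toList 2520 5,
      o.2.1 ≤ 8 ∨ (o.2.1 = 21 ∧ (o.2.2 = 6 ∨ o.2.2 = 12)) ∨ (o.2.1 = 36 ∧ o.2.2 = 7) ∨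
        (o.2.1 = 126 ∧ (o.2.2 = 1 ∨ o.2.2 = 2)) := by
    intro o ho
    simp only [opts, List.mem_flatMap, List.mem_filter, List.mem_map, List.mem_range,
      Finset.mem_toList, Nat.mem_divisors, Bool.and_eq_true, beq_iff_eq, bne_iff_ne,
      decide_eq_true_eq, Bool.not_eq_true'] at ho
    obtain ⟨k, ⟨-, hk⟩, t, ⟨ht5, ⟨ht2, ht4⟩, htd⟩, rfl⟩ := ho
    have hk504 : k ∣ 504 := Nat.dvd_of_mod_eq_zero hk.1.1.1
    have hk' : k ∈ Nat.divisors 504 := Nat.mem_divisors.2 ⟨hk504, by norm_num⟩
    rw [show Nat.divisors 504 =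
      {1, 2, 3, 4, 6, 7, 8, 9, 12, 14, 18, 21, 24, 28, 36, 42, 56, 63, 72, 84, 126, 168, 252, 504}
      by decide +kernel] at hk'
    simp only [Finset.mem_insert, Finset.mem_singleton] at hk'
    have := hk.1.1.2
    have := hk.1.2
    interval_cases t <;> norm_num at ht4 <;>
      rcases hk' with rfl|rfl|rfl|rfl|rfl|rfl|rfl|rfl|rfl|rfl|rfl|rfl|rfl|rfl|rfl|rfl|rfl|rfl|rfl|rfl|rfl|rfl|rfl|rfl <;>
      norm_num at * <;> omega
  obtain ⟨Q, hyQ, hC⟩ := centralizer_of_orderOf hr hy
  have hCc : Nat.card (centralizer ({y} : Set G)) = 5 * c := by rw [hC]; exact (hr.2.2.2 Q).2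
  have hz : zpowers y = (Q : Subgroup G) := eq_of_le_of_card_ge (zpowers_le.2 hyQ)
    (by rw [Nat.card_zpowers, hy]; exact (hr.2.2.2 Q).1.le)
  have hN : k * Nat.card (normalizer ((zpowers y : Subgroup G) : Set G)) = 2520 := by
    rw [hz, ← h.card, ← CfsgLib.SmallSimple.card_sylow_mul Q]
    exact congrArg (· * _) hr.2.2.1.symm
  have hk : 8 < k := by
    have hne : normalizer ((zpowers y : Subgroup G) : Set G) ≠ ⊤ :=
      h.normalizer_ne_top (by simp; rintro rfl; simp at hy) (by rw [Nat.card_zpowers, hy]; norm_num)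
    have h1 := h.index_gt hne
    have h2 := (normalizer ((zpowers y : Subgroup G) : Set G)).card_mul_index
    rw [h.card, ← hN] at h2
    nlinarith [Nat.card_pos (α := normalizer ((zpowers y : Subgroup G) : Set G))]
  rw [hCc]
  rcases hopts _ ho with h' | h' | h' | h' <;> simp only at h'
  · omega
  · obtain ⟨rfl, rfl | rfl⟩ := h' <;> refine ⟨?_, ?_, ?_, ?_⟩ <;> omega
  · obtain ⟨rfl, rfl⟩ := h'; refine ⟨?_, ?_, ?_, ?_⟩ <;> omega
  · obtain ⟨rfl, rfl | rfl⟩ := h' <;> refine ⟨?_, ?_, ?_, ?_⟩ <;> omega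

/-- Elements of order seven. -/
theorem seven {y : G} (hy : orderOf y = 7) :
    ¬ 2 ∣ Nat.card (centralizer ({y} : Set G)) ∧ ¬ 3 ∣ Nat.card (centralizer ({y} : Set G)) := by
  haveI : Fact (Nat.Prime 7) := ⟨by norm_num⟩
  have hD : ∀ k, k ∣ Nat.card G → k ∈ CfsgLib.SixThousand.divList 2520 :=
    fun k hk => CfsgLib.SixThousand.mem_divList (by norm_num) (h.card ▸ hk)
  obtain ⟨o, ho, hr, hp⟩ := exists_real h.na _ hD (p := 7) (by norm_num) (by rw [h.card]; norm_num)
    (by rw [h.card]; norm_num)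
  rw [h.card] at ho
  obtain ⟨p, k, c⟩ := o
  have hp' : p = 7 := hp
  subst hp'
  have hopts : (opts (CfsgLib.SixThousand.divList 2520) 2520 7).all (fun o =>
      decide (o.2.1 ≤ 8) || CfsgLib.SixThousand.fixKill (CfsgLib.SixThousand.divList 2520) o ||
        o.2.2 == 1 || o.2.2 == 5) = true := by decide +kernel
  have h' := List.all_eq_true.1 hopts _ ho
  obtain ⟨Q, hyQ, hC⟩ := centralizer_of_orderOf hr hy
  have hz : zpowers y = (Q : Subgroup G) := eq_of_le_of_card_ge (zpowers_le.2 hyQ)
    (by rw [Nat.card_zpowers, hy]; exact (hr.2.2.2 Q).1.le)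
  have hk : 8 < k := by
    have hne : normalizer ((zpowers y : Subgroup G) : Set G) ≠ ⊤ :=
      h.normalizer_ne_top (by simp; rintro rfl; simp at hy) (by rw [Nat.card_zpowers, hy]; norm_num)
    have h1 := h.index_gt hne
    rw [hz] at h1
    exact h1.trans_eq ((Sylow.card_eq_index_normalizer Q).symm.trans hr.2.2.1)
  simp only [Bool.or_eq_true, decide_eq_true_eq, beq_iff_eq] at h'
  have hCc : Nat.card (centralizer ({y} : Set G)) = 7 * c := by rw [hC]; exact (hr.2.2.2 Q).2
  rcases h' with ((h' | h') | h') | h'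
  · omega
  · exact (CfsgLib.SixThousand.false_of_fixKill h.na hr h').elim
  · constructor <;> omega
  · constructor <;> omega

theorem not_commute_seven {x y : G} (hy : orderOf y = 7) (hxy : Commute x y)
    (hx : orderOf x = 2 ∨ orderOf x = 3) : False := by
  have hd := (centralizer ({y} : Set G)).orderOf_dvd_natCard (mem_centralizer_singleton_iff.2 hxy.eq)
  rcases hx with e | e <;> rw [e] at hd
  · exact (h.seven hy).1 hd
  · exact (h.seven hy).2 hd

/-- Sylow three-subgroups. -/
theorem card_three [Fact (Nat.Prime 3)] (P : Sylow 3 G) : Nat.card (P : Subgroup G) = 9 := by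
  rw [CfsgLib.SmallSimple.card_sylow_eq P (k := 2) (m := 280) (by rw [h.card]; norm_num) (by norm_num)]
  norm_num

theorem isMulComm_three [Fact (Nat.Prime 3)] (P : Sylow 3 G) : IsMulCommutative (P : Subgroup G) :=
  IsPGroup.isMulCommutative_of_card_eq_prime_sq (p := 3) (by rw [h.card_three]; norm_num)

theorem comm_three [Fact (Nat.Prime 3)] (P : Sylow 3 G) {a b : G} (ha : a ∈ (P : Subgroup G))
    (hb : b ∈ (P : Subgroup G)) : a * b = b * a :=
  congrArg Subtype.val ((h.isMulComm_three P).is_comm.comm (⟨a, ha⟩ : (P : Subgroup G)) ⟨b, hb⟩)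

/-- An abelian Sylow subgroup has no central element in its normaliser. -/
theorem eq_one_of_central {p : ℕ} [hp : Fact p.Prime] (P : Sylow p G)
    (hc : ∀ a ∈ (P : Subgroup G), ∀ b ∈ (P : Subgroup G), a * b = b * a) {x : G}
    (hx : x ∈ (P : Subgroup G))
    (hN : ∀ n ∈ normalizer ((P : Subgroup G) : Set G), n * x = x * n) : x = 1 := by
  haveI : IsMulCommutative (P : Subgroup G) := ⟨⟨fun a b => Subtype.ext (hc a a.2 b b.2)⟩⟩
  have h1 := CfsgLib.SixThousand.pow_index_eq_one h.na (P : Subgroup G) hc x (fun k g₀ hg => by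
    obtain ⟨n, hn, e⟩ := P.conj_eq_normalizer_conj_of_mem (x ^ k) g₀ (pow_mem hx k) hg
    rw [e]
    exact Commute.inv_mul_cancel ((show Commute n x from hN n hn).pow_right k))
  obtain ⟨j, hj⟩ := P.isPGroup'.exists_card_eq
  have h2 : orderOf x ∣ p ^ j := hj ▸ (P : Subgroup G).orderOf_dvd_natCard hx
  have h3 : orderOf x ∣ (P : Subgroup G).index := orderOf_dvd_of_pow_eq_one h1
  have hcop : (p ^ j).Coprime (P : Subgroup G).index :=
    Nat.Coprime.pow_left _ (hp.out.coprime_iff_not_dvd.2 P.not_dvd_index)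
  exact orderOf_eq_one_iff.1 (Nat.eq_one_of_dvd_coprimes hcop h2 h3)

/-- The normaliser of a Sylow three-subgroup of even order. -/
theorem card_normalizer_three [Fact (Nat.Prime 3)] (P : Sylow 3 G)
    (he : 2 ∣ Nat.card (normalizer ((P : Subgroup G) : Set G))) :
    Nat.card (normalizer ((P : Subgroup G) : Set G)) = 36 := by
  obtain ⟨-, hd, hm, hne, hNk⟩ := CfsgLib.SixThousand.sylow_data (G := G) (p := 3) (b := 2) (m := 280)
    h.card (by norm_num) (by norm_num) (by norm_num) (by norm_num)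
  set k := Nat.card (Sylow 3 G) with hk
  have hk8 : 8 < k := by
    have hne' : normalizer ((P : Subgroup G) : Set G) ≠ ⊤ :=
      h.normalizer_ne_top (fun e => by have := h.card_three P; rw [e, Subgroup.card_bot] at this; omega)
        (by rw [h.card_three]; norm_num)
    rw [hk, P.card_eq_index_normalizer]
    exact h.index_gt hne'
  have hkm : k ∈ [10, 28, 40, 70, 280] := by
    have := CfsgLib.SixThousand.mem_count (p := 3) (m := 280) (L := [4, 7, 10, 28, 40, 70, 280])
      (by decide +kernel) (by norm_num) hd hm hne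
    simp only [List.mem_cons, List.not_mem_nil, or_false] at this ⊢
    omega
  have hmul := CfsgLib.SmallSimple.card_sylow_mul P
  rw [← hk, h.card] at hmul
  have hkill : ∀ q : ℕ, q = 5 ∨ q = 7 → q ∣ Nat.card (normalizer ((P : Subgroup G) : Set G)) → False := by
    intro q hq hdvd
    haveI : Fact q.Prime := ⟨by rcases hq with rfl | rfl <;> norm_num⟩
    obtain ⟨y, hy⟩ := exists_prime_orderOf_dvd_card' q hdvd
    have hy' : orderOf (y : G) = q := (Subgroup.orderOf_coe y).trans hy
    have hfix := fixed_card (q := q) (by rw [← hy', pow_orderOf_eq_one]) y.2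
    have hdvd' := card_inf_dvd (P : Subgroup G) (centralizer ({(y : G)} : Set G))
    rw [h.card_three] at hfix hdvd'
    have hmem := Nat.mem_divisors.2 ⟨hdvd', (by norm_num : (9 : ℕ) ≠ 0)⟩
    rw [show Nat.divisors 9 = {1, 3, 9} by decide] at hmem
    simp only [Finset.mem_insert, Finset.mem_singleton] at hmem
    have h9 : Nat.card ((P : Subgroup G) ⊓ centralizer ({(y : G)} : Set G) : Subgroup G) = 9 := by
      rcases hq with rfl | rfl <;> rcases hmem with e | e | e <;> omega
    have hle := le_centralizer_of_card (h9.trans (h.card_three P).symm)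
    have h9d : 9 ∣ Nat.card (centralizer ({(y : G)} : Set G)) := h.card_three P ▸ card_dvd_of_le hle
    rcases hq with rfl | rfl
    · exact (h.five hy').2.1 h9d
    · exact (h.seven hy').2 (dvd_trans (by norm_num) h9d)
  simp only [List.mem_cons, List.not_mem_nil, or_false] at hkm
  rcases hkm with e | e | e | e | e <;> rw [e] at hmul
  · exact (hkill 7 (Or.inr rfl) (by omega)).elim
  · exact (hkill 5 (Or.inl rfl) (by omega)).elim
  · omega
  · omega
  · omega

end Hyp

end CfsgLib.AltSevenOrder
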